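import Groth.Agent.Lib.DVRDom.Core
import Mathlib.AlgebraicGeometry.Morphisms.FiniteType

/-!
Valuative criteria with discrete valuation rings over locally noetherian bases.
-/

universe u

open CategoryTheory CategoryTheory.Limits AlgebraicGeometry TopologicalSpace IsLocalRing

namespace GrothLib.DVRDom

variable {X S U : Scheme.{u}}

section residueField

variable (x : X)

lemma ev_fromSpecResidueField {W : X.Opens} (hW : IsAffineOpen W)
    (h : (X.fromSpecResidueField x).base (closedPoint (X.residueField x)) ∈ W) (hx : x ∈ W) :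
    ev (L := X.residueField x) (X.fromSpecResidueField x) W h = X.presheaf.germ W x hx ≫ X.residue x := by
  apply specMap_injective hW
  refine (specMap_ev (L := X.residueField x) _ hW h).trans ?_
  rw [Spec.map_comp, Category.assoc, Scheme.fromSpecResidueField]
  congr 1
  exact (hW.fromSpecStalk_eq_fromSpecStalk hx).symm

lemma closure_range_ev_eq_top {W : X.Opens} (hW : IsAffineOpen W)
    (h : (X.fromSpecResidueField x).base (closedPoint (X.residueField x)) ∈ W) :
    Subfield.closure (Set.range (ev (L := X.residueField x) (X.fromSpecResidueField x) W h).hom) = ⊤ := by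
  have hx : x ∈ W := by
    rw [← Scheme.fromSpecResidueField_apply x (closedPoint (X.residueField x))]
    exact h
  rw [ev_fromSpecResidueField x hW h hx, eq_top_iff]
  rintro z -
  obtain ⟨s, rfl⟩ := X.residue_surjective x z
  let _ := TopCat.Presheaf.algebra_section_stalk X.presheaf (⟨x, hx⟩ : W)
  have := hW.isLocalization_stalk ⟨x, hx⟩
  obtain ⟨a, b, rfl⟩ := IsLocalization.exists_mk'_eq (hW.primeIdealOf ⟨x, hx⟩).asIdeal.primeCompl s
  have hb : (X.residue x).hom (algebraMap Γ(X, W) (X.presheaf.stalk x) b) ≠ 0 :=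
    ((IsLocalization.map_units (X.presheaf.stalk x) b).map (X.residue x).hom).ne_zero
  have hab := congrArg (X.residue x).hom
    (IsLocalization.mk'_spec (X.presheaf.stalk x) a b)
  rw [map_mul] at hab
  rw [eq_div_of_mul_eq hb hab]
  exact div_mem (Subfield.subset_closure ⟨a, rfl⟩) (Subfield.subset_closure ⟨b.1, rfl⟩)

/-- Residue fields are finitely generated over sections of the base. -/
lemma exists_finset_residueField (g : X ⟶ S) [LocallyOfFiniteType g] {V : S.Opens}
    (hV : IsAffineOpen V)
    (h : (X.fromSpecResidueField x ≫ g).base (closedPoint (X.residueField x)) ∈ V) :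
    ∃ s : Finset (X.residueField x),
      Subfield.closure (Set.range (ev (L := X.residueField x) (X.fromSpecResidueField x ≫ g) V h).hom
        ∪ (s : Set (X.residueField x))) = ⊤ := by
  classical
  obtain ⟨_, ⟨W, hW, rfl⟩, hxW, hWV⟩ := X.isBasis_affineOpens.exists_subset_of_mem_open
    (show (X.fromSpecResidueField x).base (closedPoint (X.residueField x)) ∈ g ⁻¹ᵁ V from h)
    (g ⁻¹ᵁ V).2
  let _ := (g.appLE V W hWV).hom.toAlgebra
  have : Algebra.FiniteType Γ(S, V) Γ(X, W) :=
    LocallyOfFiniteType.finiteType_appLE g hV hW hWV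
  obtain ⟨t, ht⟩ := Algebra.FiniteType.out (R := Γ(S, V)) (A := Γ(X, W))
  refine ⟨t.image (ev (L := X.residueField x) (X.fromSpecResidueField x) W hxW).hom, ?_⟩
  rw [eq_top_iff, ← closure_range_ev_eq_top x hW hxW, Subfield.closure_le]
  rintro _ ⟨a, rfl⟩
  have ha : a ∈ Algebra.adjoin Γ(S, V) (t : Set Γ(X, W)) := by rw [ht]; trivial
  induction ha using Algebra.adjoin_induction with
  | mem b hb => exact Subfield.subset_closure (Or.inr (Finset.mem_image_of_mem _ hb))
  | algebraMap b =>
    refine Subfield.subset_closure (Or.inl ⟨b, ?_⟩)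
    exact (ConcreteCategory.congr_hom (ev_comp (L := X.residueField x) g _ hW hV hWV hxW) b).symm
  | add b c _ _ hb hc => rw [map_add]; exact add_mem hb hc
  | mul b c _ _ hb hc => rw [map_mul]; exact mul_mem hb hc

end residueField

/-- Discrete valuation rings can be picked for squares at residue fields of finite type. -/
lemma exists_dvr_pick [IsLocallyNoetherian S] (f : X ⟶ S) (h : U ⟶ X)
    [LocallyOfFiniteType (h ≫ f)] (u : U) (V₀ : S.Opens) (hV₀ : IsAffineOpen V₀)
    (hq : ((U.fromSpecResidueField u ≫ h) ≫ f).base (closedPoint (U.residueField u)) ∈ V₀)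
    (C : LocalSubring (U.residueField u)) (hC : ¬ IsField C.toSubring)
    (hCB : ∀ b, (ev (L := U.residueField u) ((U.fromSpecResidueField u ≫ h) ≫ f) V₀ hq).hom b ∈ C.toSubring)
    (hCn : IsNoetherianRing Γ(S, V₀) → IsNoetherianRing C.toSubring) :
    ∃ V : ValuationSubring (U.residueField u),
      IsDiscreteValuationRing V ∧ C ≤ V.toLocalSubring := by
  have := hCn (IsLocallyNoetherian.component_noetherian ⟨V₀, hV₀⟩)
  obtain ⟨s, hs⟩ := exists_finset_residueField u (h ≫ f) hV₀ hq
  refine exists_dvr_dominating_localSubring C hC s (eq_top_iff.mpr (hs.ge.trans ?_))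
  refine Subfield.closure_mono (Set.union_subset_union_left _ ?_)
  rintro _ ⟨b, rfl⟩
  exact hCB b

lemma exists_valuation_pick {L : Type u} [Field L] (C : LocalSubring L) (hC : ¬ IsField C.toSubring) :
    ∃ V : ValuationSubring L, V ≠ ⊤ ∧ C ≤ V.toLocalSubring := by
  obtain ⟨V, hV⟩ := C.exists_le_valuationSubring
  refine ⟨V, ?_, hV⟩
  rintro rfl
  exact not_isField_of_le hV hC (MulEquiv.isField (Field.toIsField L) (Subring.topEquiv (R := L)).toMulEquiv)

/-- Lifts at the residue field of every point give the existence part of the valuative criterion. -/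
theorem existence_of_lifts (f : X ⟶ S) [QuasiCompact f]
    (P : ∀ x : X, ValuationSubring (X.residueField x) → Prop)
    (hP : ∀ (x : X) (V₀ : S.Opens) (_ : IsAffineOpen V₀)
      (hq : (X.fromSpecResidueField x ≫ f).base (closedPoint (X.residueField x)) ∈ V₀)
      (C : LocalSubring (X.residueField x)), ¬ IsField C.toSubring →
      (∀ b, (ev (L := X.residueField x) (X.fromSpecResidueField x ≫ f) V₀ hq).hom b ∈ C.toSubring) →
      (IsNoetherianRing Γ(S, V₀) → IsNoetherianRing C.toSubring) → ∃ V, P x V ∧ C ≤ V.toLocalSubring)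
    (H : ∀ (x : X) V, P x V → Lifts (L := X.residueField x) f (X.fromSpecResidueField x) V) :
    ValuativeCriterion.Existence f := by
  rintro ⟨R, K, i₁, i₂, ⟨w⟩⟩
  have w' : i₁ ≫ f = Spec.map (CommRingCat.ofHom (algebraMap R K)) ≫ i₂ := w
  let x := i₁.base (closedPoint K)
  let q : Spec (.of (X.residueField x)) ⟶ X := X.fromSpecResidueField x
  have hqx : q.base (closedPoint (X.residueField x)) = x := Scheme.fromSpecResidueField_apply x _
  let θ : X.residueField x ⟶ .of K := X.descResidueField (Scheme.stalkClosedPointTo i₁)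
  have hθ : Spec.map θ ≫ q = i₁ := Scheme.descResidueField_stalkClosedPointTo_fromSpecResidueField K X i₁
  obtain ⟨l, hl₁, hl₂⟩ := exists_lift_core f q (P x) (hP x) (H x) i₁ i₂ w' (specializes_of_eq hqx)
    ⊤ (θ.hom.comp (⊤ : Subring (X.residueField x)).subtype) (fun W hx a ↦ ⟨trivial, by
      obtain ⟨_, ⟨W', hW', rfl⟩, hxW', hW'W⟩ := X.isBasis_affineOpens.exists_subset_of_mem_open hx W.2
      have hW'q : q.base (closedPoint (X.residueField x)) ∈ W' := by rwa [hqx]
      have h1 : ev q W' hW'q ≫ θ = ev i₁ W' hxW' := by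
        apply specMap_injective hW'
        refine (Spec.map_comp_assoc _ _ _).trans ?_
        refine (congrArg (Spec.map θ ≫ ·) (specMap_ev (L := X.residueField x) q hW' hW'q)).trans ?_
        exact hθ.trans (specMap_ev i₁ hW' hxW').symm
      have h2 : ∀ {L : Type u} [Field L] (p : Spec (.of L) ⟶ X) (hp : p.base (closedPoint L) ∈ W'),
          X.presheaf.map (homOfLE hW'W).op ≫ ev p W' hp = ev p W (hW'W hp) := fun p hp ↦ by
        simp only [ev, ← Category.assoc]
        congr 1
        exact X.presheaf.germ_res (homOfLE hW'W) _ hp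
      have h3 := ConcreteCategory.congr_hom h1 ((X.presheaf.map (homOfLE hW'W).op).hom a)
      refine (congrArg θ.hom (ConcreteCategory.congr_hom (h2 (L := X.residueField x) q hW'q) a)).symm.trans
        (Eq.trans ?_ (ConcreteCategory.congr_hom (h2 i₁ hxW') a))
      exact h3⟩)
    (fun W _ _ _ _ _ hη hx ↦ hx (by have h' := hη; rwa [hqx] at h') |>.elim)
  exact ⟨⟨⟨l, hl₁, hl₂⟩⟩⟩

/-- Lifts at points with dense closure give the existence part of the valuative criterion for
separated morphisms. -/
theorem existence_of_lifts_of_isSeparated (f : X ⟶ S) [QuasiCompact f] [IsSeparated f] (h : U ⟶ X)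
    (G : U → Prop) (hd : ∀ x, ∃ u, G u ∧ h.base u ⤳ x)
    (P : ∀ u : U, ValuationSubring (U.residueField u) → Prop)
    (hP : ∀ (u : U) (V₀ : S.Opens) (_ : IsAffineOpen V₀)
      (hq : ((U.fromSpecResidueField u ≫ h) ≫ f).base (closedPoint (U.residueField u)) ∈ V₀)
      (C : LocalSubring (U.residueField u)), ¬ IsField C.toSubring →
      (∀ b, (ev (L := U.residueField u) ((U.fromSpecResidueField u ≫ h) ≫ f) V₀ hq).hom b ∈ C.toSubring) →
      (IsNoetherianRing Γ(S, V₀) → IsNoetherianRing C.toSubring) → ∃ V, P u V ∧ C ≤ V.toLocalSubring)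
    (H : ∀ (u : U) V, G u → P u V → Lifts (L := U.residueField u) f (U.fromSpecResidueField u ≫ h) V) :
    ValuativeCriterion.Existence f := by
  rintro ⟨R, K, i₁, i₂, ⟨w⟩⟩
  have w' : i₁ ≫ f = Spec.map (CommRingCat.ofHom (algebraMap R K)) ≫ i₂ := w
  obtain ⟨u, hGu, hu⟩ := hd (i₁.base (closedPoint K))
  let x := i₁.base (closedPoint K)
  let L := U.residueField u
  let q : Spec (.of L) ⟶ X := U.fromSpecResidueField u ≫ h
  have hqη : q.base (closedPoint L) = h.base u :=
    congrArg h.base (Scheme.fromSpecResidueField_apply u _)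
  have hsp : q.base (closedPoint L) ⤳ x := by rw [hqη]; exact hu
  let χ : X.presheaf.stalk x ⟶ .of L :=
    X.presheaf.stalkSpecializes hsp ≫ Scheme.stalkClosedPointTo q
  obtain ⟨A, hA, hAl⟩ := exists_factor_valuationRing χ.hom
  let χA : X.presheaf.stalk x →+* A := χ.hom.codRestrict A.toSubring hA
  have : IsLocalHom χA := hAl
  let θK : X.residueField x ⟶ .of K := X.descResidueField (Scheme.stalkClosedPointTo i₁)
  let ι₁ : X.residueField x →+* ResidueField A := ResidueField.map χA
  let T₀ : Subring A := ι₁.range.comap (residue A)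
  let e := RingEquiv.ofBijective ι₁.rangeRestrict
    ⟨fun a b hab ↦ ι₁.injective (congrArg Subtype.val hab), ι₁.rangeRestrict_surjective⟩
  let T : Subring L := T₀.map A.subtype
  have hTA : ∀ z : T, ∃ hz : (z : L) ∈ A, residue A ⟨z, hz⟩ ∈ ι₁.range := by
    rintro ⟨_, ⟨a, ha⟩, haT, rfl⟩
    exact ⟨ha, haT⟩
  choose hTA hTr using hTA
  let θ : T →+* K := (θK.hom.comp e.symm.toRingHom).comp
    (((residue A).comp (Subring.inclusion (fun z hz ↦ hTA ⟨z, hz⟩) : T →+* A)).codRestrict ι₁.range hTr)
  have hθ : ∀ (z : L) (hz : z ∈ T) (k : X.residueField x),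
      residue A ⟨z, hTA ⟨z, hz⟩⟩ = ι₁ k → θ ⟨z, hz⟩ = θK.hom k := by
    intro z hz k hk
    show θK.hom (e.symm _) = _
    congr 1
    rw [RingEquiv.symm_apply_eq]
    exact Subtype.ext hk
  have hev : ∀ (W : X.Opens) (hW : x ∈ W) (b : Γ(X, W)),
      χ.hom ((X.presheaf.germ W x hW).hom b) = (ev q W (hsp.mem_open W.2 hW)).hom b := by
    intro W hW b
    show (X.presheaf.germ W x hW ≫ χ).hom b = _
    rw [TopCat.Presheaf.germ_stalkSpecializes_assoc]
    rfl
  obtain ⟨l, hl₁, hl₂⟩ := exists_lift_core f q (P u) (hP u) (fun V ↦ H u V hGu) i₁ i₂ w' hsp T θ (fun W hx a ↦ by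
      let s := (X.presheaf.germ W x hx).hom a
      have hm : (ev q W (hsp.mem_open W.2 hx)).hom a ∈ T := by
        rw [← hev W hx a]
        exact ⟨χA s, ⟨(X.residue x).hom s, rfl⟩, rfl⟩
      refine ⟨hm, ?_⟩
      rw [hθ _ hm ((X.residue x).hom s)]
      · exact ConcreteCategory.congr_hom (Scheme.residue_descResidueField (Scheme.stalkClosedPointTo i₁)) s
      · show residue A _ = residue A (χA s)
        congr 1
        exact Subtype.ext (hev W hx a).symm)
    (fun W V₀ hW hV₀ hWV hyV hη hx ↦ by
      by_contra! hcon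
      have hr : ∀ a, (ev q W hη).hom a ∈ (algebraMap A L).range := by
        intro a
        by_contra ha
        have hne : (ev q W hη).hom a ≠ 0 := fun h0 ↦ ha (h0 ▸ zero_mem _)
        have hinv : ((ev q W hη).hom a)⁻¹ ∈ A :=
          (A.mem_or_inv_mem _).resolve_left fun h' ↦ ha ⟨⟨_, h'⟩, rfl⟩
        have hres : residue A ⟨_, hinv⟩ = 0 := by
          rw [residue_eq_zero_iff, mem_maximalIdeal]
          intro hu'
          obtain ⟨b, hb⟩ := hu'.exists_right_inv
          refine ha ⟨b, ?_⟩
          have hb' : ((ev q W hη).hom a)⁻¹ * (b : L) = 1 := congrArg Subtype.val hb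
          show (b : L) = _
          rw [← inv_inv ((ev q W hη).hom a), inv_eq_of_mul_eq_one_right hb']
        have hT' : ((ev q W hη).hom a)⁻¹ ∈ T := ⟨⟨_, hinv⟩, by
          show residue A _ ∈ ι₁.range
          rw [hres]; exact zero_mem _, rfl⟩
        exact hcon a hne hT' (by rw [hθ _ hT' 0 (by rw [map_zero]; exact hres), map_zero])
      let i₂' : Spec (.of A) ⟶ S := Spec.map (CommRingCat.ofHom χA) ≫ X.fromSpecStalk x ≫ f
      let l₂ : Spec (.of A) ⟶ X := Spec.map (CommRingCat.ofHom χA) ≫ X.fromSpecStalk x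
      have hl₂cl : l₂.base (closedPoint A) = x := by
        show (X.fromSpecStalk x).base ((Spec.map (CommRingCat.ofHom χA)).base (closedPoint A)) = x
        rw [show (Spec.map (CommRingCat.ofHom χA)).base (closedPoint A) =
          closedPoint (X.presheaf.stalk x) from comap_closedPoint χA, Scheme.fromSpecStalk_closedPoint]
      have hl₂q : Spec.map (CommRingCat.ofHom (algebraMap A L)) ≫ l₂ = q := by
        rw [← Category.assoc, ← Spec.map_comp]
        show Spec.map χ ≫ _ = q
        rw [Spec.map_comp, Category.assoc, Scheme.SpecMap_stalkSpecializes_fromSpecStalk,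
          Scheme.Spec_stalkClosedPointTo_fromSpecStalk]
      have hw : q ≫ f = Spec.map (CommRingCat.ofHom (algebraMap A L)) ≫ i₂' := by
        rw [← hl₂q]; simp [i₂', l₂]
      have hxV : i₂'.base (closedPoint A) ∈ V₀ := by
        show f.base (l₂.base (closedPoint A)) ∈ V₀
        rw [hl₂cl]
        show (i₁ ≫ f).base (closedPoint K) ∈ V₀
        rw [w']
        exact mem_of_closedPoint_mem i₂ hyV _
      obtain ⟨l₁, hl₁U, hl₁q, hl₁f⟩ := exists_lift_of_range_le
        (IsFractionRing.injective A L) f q i₂' hw hW hV₀ hWV hxV hη hr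
      let Q : ValuativeCommSq f := { R := A, K := L, i₁ := q, i₂ := i₂', commSq := ⟨hw⟩ }
      have := IsSeparated.valuativeCriterion f Q
      have heq : l₁ = l₂ := congrArg CommSq.LiftStruct.l
        (Subsingleton.elim (α := Q.commSq.LiftStruct) ⟨l₁, hl₁q, hl₁f⟩
          ⟨l₂, hl₂q, by simp [Q, i₂', l₂]⟩)
      rw [heq, hl₂cl] at hl₁U
      exact hx hl₁U)
  exact ⟨⟨⟨l, hl₁, hl₂⟩⟩⟩

/-- Lifts at residue fields for the diagonal amount to uniqueness of lifts. -/
lemma lifts_diagonal {L : Type u} [Field L] (f : X ⟶ S) (q : Spec (.of L) ⟶ X) (V : ValuationSubring L)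
    (H : ∀ l₁ l₂ : Spec (.of V) ⟶ X, l₁ ≫ f = l₂ ≫ f →
      Spec.map (CommRingCat.ofHom V.subtype) ≫ l₁ = q →
      Spec.map (CommRingCat.ofHom V.subtype) ≫ l₂ = q → l₁ = l₂) :
    Lifts (pullback.diagonal f) q V := by
  intro y hy
  have h1 : Spec.map (CommRingCat.ofHom V.subtype) ≫ y ≫ pullback.fst f f = q := by
    rw [reassoc_of% hy, pullback.diagonal_fst, Category.comp_id]
  have h2 : Spec.map (CommRingCat.ofHom V.subtype) ≫ y ≫ pullback.snd f f = q := by
    rw [reassoc_of% hy, pullback.diagonal_snd, Category.comp_id]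
  have := H _ _ (by rw [Category.assoc, Category.assoc, pullback.condition]) h1 h2
  refine ⟨y ≫ pullback.fst f f, ?_, h1⟩
  apply pullback.hom_ext
  · simp
  · simp [this]

/-- Separatedness from uniqueness at points with dense closure, over a locally noetherian base. -/
theorem isSeparated_of_lifts [IsLocallyNoetherian S] (f : X ⟶ S) [LocallyOfFiniteType f]
    (h : U ⟶ X) [LocallyOfFiniteType h] (G : U → Prop) (hd : ∀ x, ∃ u, G u ∧ h.base u ⤳ x)
    (H : ∀ (u : U) (V : ValuationSubring (U.residueField u)), G u → IsDiscreteValuationRing V →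
      ∀ l₁ l₂ : Spec (.of V) ⟶ X, l₁ ≫ f = l₂ ≫ f →
        Spec.map (CommRingCat.ofHom V.subtype) ≫ l₁ = U.fromSpecResidueField u ≫ h →
        Spec.map (CommRingCat.ofHom V.subtype) ≫ l₂ = U.fromSpecResidueField u ≫ h → l₁ = l₂) :
    IsSeparated f := by
  have : IsLocallyNoetherian X := LocallyOfFiniteType.isLocallyNoetherian f
  have : IsLocallyNoetherian (pullback f f) := LocallyOfFiniteType.isLocallyNoetherian (pullback.fst f f ≫ f)
  have : QuasiSeparatedSpace X := inferInstance
  have : QuasiSeparated f := QuasiSeparated.of_quasiSeparatedSpace f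
  have hE := existence_of_lifts_of_isSeparated (pullback.diagonal f) h G hd
    (fun u V ↦ IsDiscreteValuationRing V) (exists_dvr_pick _ h)
    (fun u V hG hV ↦ lifts_diagonal (L := U.residueField u) f _ V (H u V hG hV))
  have := UniversallyClosed.of_valuativeCriterion (pullback.diagonal f) hE
  exact ⟨IsClosedImmersion.of_isPreimmersion _ (pullback.diagonal f).isClosedMap.isClosed_range⟩

lemma exists_specializes_of_mem_closure (h : U ⟶ X) [QuasiCompact h] (x : X)
    (hd : x ∈ closure (Set.range h.base)) : ∃ u, h.base u ⤳ x := by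
  obtain ⟨_, ⟨W, hW, rfl⟩, hxW, -⟩ :=
    X.isBasis_affineOpens.exists_subset_of_mem_open (Set.mem_univ x) isOpen_univ
  obtain ⟨B, g, hg⟩ := isCompact_iff_exists.mp (h.isCompact_preimage hW.isCompact)
  have hrange : Set.range (g ≫ h).base = Set.range h.base ∩ W := by
    ext z
    constructor
    · rintro ⟨b, rfl⟩
      exact ⟨⟨_, rfl⟩, hg.le ⟨b, rfl⟩⟩
    · rintro ⟨⟨u, rfl⟩, hu⟩
      obtain ⟨b, rfl⟩ := hg.ge (show u ∈ ((h ⁻¹ᵁ W : U.Opens) : Set U) from hu)
      exact ⟨b, rfl⟩
  let ψ := Spec.preimage (IsOpenImmersion.lift hW.fromSpec (g ≫ h) (by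
    rw [hW.range_fromSpec, hrange]
    exact Set.inter_subset_right))
  have hψ : Spec.map ψ ≫ hW.fromSpec = g ≫ h := by
    rw [Spec.map_preimage, IsOpenImmersion.lift_fac]
  obtain ⟨𝔭, rfl⟩ := hW.range_fromSpec.ge hxW
  have hmem : (show PrimeSpectrum Γ(X, W) from 𝔭) ∈ closure (Set.range (PrimeSpectrum.comap ψ.hom)) := by
    refine (hW.fromSpec.isOpenEmbedding.isInducing.closure_eq_preimage_closure_image _).ge ?_
    rw [Set.mem_preimage]
    have : hW.fromSpec.base '' Set.range (PrimeSpectrum.comap ψ.hom) = Set.range (g ≫ h).base := by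
      rw [← hψ, ← Set.range_comp]; rfl
    refine (congrArg closure (this.trans (hrange.trans (Set.inter_comm _ _)))).ge ?_
    exact W.2.inter_closure ⟨hxW, hd⟩
  rw [PrimeSpectrum.closure_range_comap] at hmem
  obtain ⟨P, hP, hP𝔭⟩ := Ideal.exists_minimalPrimes_le (show RingHom.ker ψ.hom ≤ 𝔭.asIdeal from hmem)
  obtain ⟨Q, hQ, -, hQP⟩ := Ideal.exists_comap_eq_of_mem_minimalPrimes ψ.hom (I := ⊥) P hP
  refine ⟨g.base ⟨Q, hQ⟩, ?_⟩
  show (g ≫ h).base ⟨Q, hQ⟩ ⤳ _
  rw [← hψ]
  refine Specializes.map ?_ hW.fromSpec.continuous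
  exact (PrimeSpectrum.le_iff_specializes
    (PrimeSpectrum.comap ψ.hom ⟨Q, hQ⟩) (show PrimeSpectrum Γ(X, W) from 𝔭)).mp (hQP.trans_le hP𝔭)

lemma exists_specializes_of_denseRange (h : U ⟶ X) [QuasiCompact h] (hd : DenseRange h.base) (x : X) :
    ∃ u, h.base u ⤳ x :=
  exists_specializes_of_mem_closure h x (hd x)

lemma exists_genericPoint_specializes (x : X) :
    ∃ η : X, closure {η} ∈ irreducibleComponents X ∧ η ⤳ x := by
  have hirr := isIrreducible_irreducibleComponent (x := x)
  refine ⟨hirr.genericPoint, ?_, ?_⟩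
  · rw [hirr.isGenericPoint_genericPoint_closure, isClosed_irreducibleComponent.closure_eq]
    exact irreducibleComponent_mem_irreducibleComponents x
  · rw [specializes_iff_mem_closure, hirr.isGenericPoint_genericPoint_closure]
    exact subset_closure mem_irreducibleComponent

/-- Conversion from the fraction field form of the existence criterion. -/
lemma lifts_of_fractionRing {L : Type u} [Field L] (f : X ⟶ S) (q : Spec (.of L) ⟶ X)
    (V : ValuationSubring L)
    (H : ∀ (x : Spec (.of (FractionRing V)) ⟶ X) (y : Spec (.of V) ⟶ S),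
      x ≫ f = Spec.map (CommRingCat.ofHom (algebraMap V (FractionRing V))) ≫ y →
      (∃ z : Spec (.of (FractionRing V)) ⟶ Spec (.of L), x = z ≫ q) →
      ∃ l : Spec (.of V) ⟶ X, l ≫ f = y ∧
        Spec.map (CommRingCat.ofHom (algebraMap V (FractionRing V))) ≫ l = x) :
    Lifts f q V := by
  intro y hy
  let e := FractionRing.algEquiv V L
  let a : CommRingCat.of L ⟶ CommRingCat.of (FractionRing V) := CommRingCat.ofHom e.symm.toAlgHom.toRingHom
  let b : CommRingCat.of (FractionRing V) ⟶ CommRingCat.of L := CommRingCat.ofHom e.toAlgHom.toRingHom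
  have hb : CommRingCat.ofHom (algebraMap V (FractionRing V)) ≫ b = CommRingCat.ofHom V.subtype := by
    ext z; exact e.commutes z
  have ha : CommRingCat.ofHom V.subtype ≫ a = CommRingCat.ofHom (algebraMap V (FractionRing V)) := by
    ext z; exact e.symm.commutes z
  have hab : a ≫ b = 𝟙 _ := by ext z; exact e.apply_symm_apply z
  obtain ⟨l, hl, hl'⟩ := H (Spec.map a ≫ q) y
    (by rw [Category.assoc, ← hy, ← Category.assoc, ← Spec.map_comp, ha]) ⟨_, rfl⟩
  refine ⟨l, hl, ?_⟩
  rw [← hb, Spec.map_comp, Category.assoc, hl', ← Category.assoc, ← Spec.map_comp, hab, Spec.map_id,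
    Category.id_comp]

/-- Existence of lifts from the existence part of the valuative criterion. -/
lemma exists_lift_of_existence {R K : Type u} [CommRing R] [IsDomain R] [ValuationRing R] [Field K]
    [Algebra R K] [IsFractionRing R K] {f : X ⟶ S} (H : ValuativeCriterion.Existence f)
    (x : Spec (.of K) ⟶ X) (y : Spec (.of R) ⟶ S)
    (w : x ≫ f = Spec.map (CommRingCat.ofHom (algebraMap R K)) ≫ y) :
    ∃ l : Spec (.of R) ⟶ X, l ≫ f = y ∧ Spec.map (CommRingCat.ofHom (algebraMap R K)) ≫ l = x := by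
  obtain ⟨⟨l, hl₁, hl₂⟩⟩ := (H { R := R, K := K, i₁ := x, i₂ := y, commSq := ⟨w⟩ }).exists_lift
  exact ⟨l, hl₂, hl₁⟩

/-- Uniqueness of lifts for separated morphisms. -/
lemma eq_of_isSeparated {R K : Type u} [CommRing R] [IsDomain R] [ValuationRing R] [Field K]
    [Algebra R K] [IsFractionRing R K] (f : X ⟶ S) [IsSeparated f]
    (l₁ l₂ : Spec (.of R) ⟶ X) (h₁ : l₁ ≫ f = l₂ ≫ f)
    (h₂ : Spec.map (CommRingCat.ofHom (algebraMap R K)) ≫ l₁ =
      Spec.map (CommRingCat.ofHom (algebraMap R K)) ≫ l₂) : l₁ = l₂ := by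
  let Q : ValuativeCommSq f :=
    { R := R, K := K, i₁ := Spec.map (CommRingCat.ofHom (algebraMap R K)) ≫ l₁, i₂ := l₁ ≫ f,
      commSq := ⟨Category.assoc _ _ _⟩ }
  have := IsSeparated.valuativeCriterion f Q
  exact congrArg CommSq.LiftStruct.l
    (Subsingleton.elim (α := Q.commSq.LiftStruct) ⟨l₁, rfl, rfl⟩ ⟨l₂, h₂.symm, h₁.symm⟩)

lemma restrict_fractionRing_eq {L : Type u} [Field L] (V : ValuationSubring L) (l₁ l₂ : Spec (.of V) ⟶ X)
    (h : Spec.map (CommRingCat.ofHom V.subtype) ≫ l₁ = Spec.map (CommRingCat.ofHom V.subtype) ≫ l₂) :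
    ∃ z : Spec (.of (FractionRing V)) ⟶ Spec (.of L),
      Spec.map (CommRingCat.ofHom (algebraMap V (FractionRing V))) ≫ l₁ =
          z ≫ Spec.map (CommRingCat.ofHom V.subtype) ≫ l₁ ∧
        Spec.map (CommRingCat.ofHom (algebraMap V (FractionRing V))) ≫ l₂ =
          z ≫ Spec.map (CommRingCat.ofHom V.subtype) ≫ l₁ := by
  let e := FractionRing.algEquiv V L
  let a : CommRingCat.of L ⟶ CommRingCat.of (FractionRing V) := CommRingCat.ofHom e.symm.toAlgHom.toRingHom
  have ha : CommRingCat.ofHom V.subtype ≫ a = CommRingCat.ofHom (algebraMap V (FractionRing V)) := by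
    ext z; exact e.symm.commutes z
  exact ⟨Spec.map a, by rw [← ha, Spec.map_comp, Category.assoc],
    by rw [h, ← ha, Spec.map_comp, Category.assoc]⟩

section construction

variable (p : X ⟶ S) (x : X) (y' : S) (hsp : p.base x ⤳ y')

/-- The canonical map from the local ring at a specialization of the image to the residue field. -/
noncomputable def toResidue : S.presheaf.stalk y' ⟶ X.residueField x :=
  S.presheaf.stalkSpecializes hsp ≫ p.stalkMap x ≫ X.residue x

lemma specMap_toResidue :
    Spec.map (toResidue p x y' hsp) ≫ S.fromSpecStalk y' = X.fromSpecResidueField x ≫ p := by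
  rw [toResidue, Spec.map_comp, Spec.map_comp, Category.assoc, Category.assoc,
    Scheme.SpecMap_stalkSpecializes_fromSpecStalk, Scheme.SpecMap_stalkMap_fromSpecStalk,
    Scheme.fromSpecResidueField, Category.assoc]

lemma not_isField_range (hne : y' ≠ p.base x) :
    ¬ IsField (LocalSubring.range (toResidue p x y' hsp).hom).toSubring := by
  intro hf
  have key : IsLocalHom (S.presheaf.stalkSpecializes hsp).hom := by
    refine ⟨fun a ha ↦ ?_⟩
    by_contra hu
    let z : (LocalSubring.range (toResidue p x y' hsp).hom).toSubring :=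
      ⟨(toResidue p x y' hsp).hom a, a, rfl⟩
    have hz : (toResidue p x y' hsp).hom a ≠ 0 :=
      ((ha.map (p.stalkMap x).hom).map (X.residue x).hom).ne_zero
    obtain ⟨⟨_, b, rfl⟩, hb⟩ := hf.mul_inv_cancel (a := z) (fun h ↦ hz (congrArg Subtype.val h))
    have hb' : (toResidue p x y' hsp).hom (a * b - 1) = 0 := by
      rw [map_sub, map_mul, map_one, sub_eq_zero]
      exact congrArg Subtype.val hb
    have hab : a * b - 1 ∈ maximalIdeal (S.presheaf.stalk y') :=
      (mem_maximalIdeal _).mpr fun hu' ↦ (hu'.map (toResidue p x y' hsp).hom).ne_zero hb'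
    have ha' : a * b ∈ maximalIdeal (S.presheaf.stalk y') :=
      Ideal.mul_mem_right _ _ ((mem_maximalIdeal a).mpr hu)
    exact (mem_maximalIdeal _).mp (sub_sub_cancel (a * b) 1 ▸ sub_mem ha' hab) isUnit_one
  apply hne
  have := congrArg (fun g ↦ g.base (closedPoint (S.presheaf.stalk (p.base x))))
    (S.SpecMap_stalkSpecializes_fromSpecStalk hsp)
  simp only [Scheme.fromSpecStalk_closedPoint] at this
  rw [← this]
  show y' = (S.fromSpecStalk y').base _
  refine Eq.symm ((congrArg (S.fromSpecStalk y').base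
    (show _ = closedPoint _ from comap_closedPoint (S.presheaf.stalkSpecializes hsp).hom)).trans ?_)
  exact Scheme.fromSpecStalk_closedPoint

lemma exists_spec_of_le (V : ValuationSubring (X.residueField x))
    (hV : LocalSubring.range (toResidue p x y' hsp).hom ≤ V.toLocalSubring) :
    ∃ h : Spec (.of V) ⟶ S, h.base (closedPoint V) = y' ∧
      Spec.map (CommRingCat.ofHom V.subtype) ≫ h = X.fromSpecResidueField x ≫ p := by
  let φ := (toResidue p x y' hsp).hom
  let φV : S.presheaf.stalk y' →+* V := φ.codRestrict V.toSubring fun a ↦ hV.1 ⟨a, rfl⟩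
  have : IsLocalHom φV := @RingHom.isLocalHom_comp _ _ _ _ _ _ _ _ hV.2
    (.of_surjective _ φ.rangeRestrict_surjective)
  refine ⟨Spec.map (CommRingCat.ofHom φV) ≫ S.fromSpecStalk y', ?_, ?_⟩
  · show (S.fromSpecStalk y').base ((Spec.map (CommRingCat.ofHom φV)).base (closedPoint V)) = y'
    rw [show (Spec.map (CommRingCat.ofHom φV)).base (closedPoint V) = closedPoint _ from
      comap_closedPoint φV, Scheme.fromSpecStalk_closedPoint]
  · rw [← Category.assoc, ← Spec.map_comp, ← specMap_toResidue p x y' hsp]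
    rfl

include hsp in
theorem exists_dvr_over [IsLocallyNoetherian S] [LocallyOfFiniteType p] (hne : y' ≠ p.base x) :
    ∃ (A : ValuationSubring (X.residueField x)) (h : Spec (CommRingCat.of A) ⟶ S),
      IsDiscreteValuationRing A ∧ h.base (closedPoint A) = y' ∧
      Spec.map (CommRingCat.ofHom A.subtype) ≫ h = X.fromSpecResidueField x ≫ p := by
  let φ := (toResidue p x y' hsp).hom
  have : IsNoetherianRing (LocalSubring.range φ).toSubring :=
    isNoetherianRing_of_surjective _ _ φ.rangeRestrict φ.rangeRestrict_surjective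
  obtain ⟨_, ⟨V₀, hV₀, rfl⟩, hyV, -⟩ :=
    S.isBasis_affineOpens.exists_subset_of_mem_open (Set.mem_univ y') isOpen_univ
  have hxV : (X.fromSpecResidueField x ≫ p).base (closedPoint (X.residueField x)) ∈ V₀ := by
    exact (congrArg p.base (Scheme.fromSpecResidueField_apply x _)).symm ▸ hsp.mem_open V₀.2 hyV
  obtain ⟨s, hs⟩ := exists_finset_residueField x p hV₀ hxV
  have hev : ev (L := X.residueField x) (X.fromSpecResidueField x ≫ p) V₀ hxV =
      S.presheaf.germ V₀ y' hyV ≫ toResidue p x y' hsp := by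
    apply specMap_injective hV₀
    refine (specMap_ev (L := X.residueField x) _ hV₀ hxV).trans ?_
    rw [Spec.map_comp, Category.assoc, ← specMap_toResidue p x y' hsp]
    congr 1
    exact (hV₀.fromSpecStalk_eq_fromSpecStalk hyV).symm
  obtain ⟨V, hV, hle⟩ := exists_dvr_dominating_localSubring _ (not_isField_range p x y' hsp hne) s
    (eq_top_iff.mpr (hs.ge.trans (Subfield.closure_mono (Set.union_subset_union_left _ (by
      rintro _ ⟨b, rfl⟩
      rw [hev]
      exact ⟨_, rfl⟩)))))
  exact ⟨V, (exists_spec_of_le p x y' hsp V hle).choose, hV,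
    (exists_spec_of_le p x y' hsp V hle).choose_spec⟩

include hsp in
theorem exists_valuation_over (hne : y' ≠ p.base x) :
    ∃ (A : ValuationSubring (X.residueField x)) (h : Spec (CommRingCat.of A) ⟶ S),
      A ≠ ⊤ ∧ h.base (closedPoint A) = y' ∧
      Spec.map (CommRingCat.ofHom A.subtype) ≫ h = X.fromSpecResidueField x ≫ p := by
  obtain ⟨V, hV, hle⟩ := exists_valuation_pick _ (not_isField_range p x y' hsp hne)
  exact ⟨V, (exists_spec_of_le p x y' hsp V hle).choose, hV,
    (exists_spec_of_le p x y' hsp V hle).choose_spec⟩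

end construction

end GrothLib.DVRDom
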