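import Groth.Agent.Lib.DVRDom.KrullAkizuki
import Mathlib.RingTheory.Valuation.LocalSubring
import Mathlib.RingTheory.Ideal.KrullsHeightTheorem
import Mathlib.RingTheory.AlgebraicIndependent.TranscendenceBasis
import Mathlib.RingTheory.Algebraic.Integral
import Mathlib.RingTheory.Adjoin.FG
import Mathlib.RingTheory.Polynomial.Basic

/-!
Discrete valuation rings dominating noetherian local domains in finitely generated field extensions.
-/

universe u

namespace GrothLib.DVRDom

open IsLocalRing
open scoped Pointwise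

variable {L : Type u} [Field L]

lemma isFractionRing_of_closure_eq_top {B : Subring L} {s : Set L} (hs : s ⊆ B)
    (h : Subfield.closure s = ⊤) : IsFractionRing B L := by
  have : FaithfulSMul B L := (faithfulSMul_iff_algebraMap_injective B L).mpr Subtype.val_injective
  refine IsFractionRing.of_field B L fun z ↦ ?_
  obtain ⟨a, ha, b, hb, rfl⟩ := Subfield.mem_closure_iff.mp (h.ge (Subfield.mem_top z))
  exact ⟨⟨a, Subring.closure_le.mpr hs ha⟩, ⟨b, Subring.closure_le.mpr hs hb⟩, rfl⟩

/-- In a local ring a maximal ideal generated by elements `g` with `g ^ k ∈ m ^ (k + 1)` is nilpotent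
up to an idempotent power. -/
lemma exists_pow_le_pow_succ {A : Type*} [CommRing A] (m : Ideal A) (t : Finset A) (htm : ∀ g ∈ t, g ∈ m)
    (h : ∀ g ∈ t, ∃ k, g ^ k ∈ m ^ (k + 1)) : ∃ M : ℕ, Ideal.span (t : Set A) ^ M ≤ m ^ (M + 1) := by
  classical
  induction t using Finset.induction with
  | empty => exact ⟨1, by simp⟩
  | insert g t hg ih =>
    obtain ⟨M, hM⟩ := ih (fun x hx ↦ htm x (Finset.mem_insert_of_mem hx))
      (fun x hx ↦ h x (Finset.mem_insert_of_mem hx))
    obtain ⟨k, hk⟩ := h g (Finset.mem_insert_self _ _)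
    have hgm : Ideal.span {g} ≤ m := by
      rw [Ideal.span_singleton_le_iff_mem]; exact htm g (Finset.mem_insert_self _ _)
    have htm' : Ideal.span (t : Set A) ≤ m := Ideal.span_le.mpr fun x hx ↦
      htm x (Finset.mem_insert_of_mem hx)
    refine ⟨k + M, ?_⟩
    rw [Finset.coe_insert, Ideal.span_insert, ← Ideal.add_eq_sup, add_pow, Ideal.sum_eq_sup,
      Finset.sup_le_iff]
    intro p hp
    refine le_trans Ideal.mul_le_left ?_
    rcases le_or_gt k p with hkp | hkp
    · obtain ⟨d, rfl⟩ := Nat.exists_eq_add_of_le hkp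
      calc Ideal.span {g} ^ (k + d) * Ideal.span (t : Set A) ^ (k + M - (k + d))
          ≤ (m ^ (k + 1) * m ^ d) * m ^ (k + M - (k + d)) := by
            rw [pow_add]
            refine mul_le_mul' (mul_le_mul' ?_ (Ideal.pow_right_mono hgm d)) (Ideal.pow_right_mono htm' _)
            rw [Ideal.span_singleton_pow, Ideal.span_singleton_le_iff_mem]; exact hk
        _ = m ^ ((k + 1 + d) + (k + M - (k + d))) := by rw [← pow_add, ← pow_add]
        _ ≤ m ^ (k + M + 1) := Ideal.pow_le_pow_right (by have := Finset.mem_range.mp hp; omega)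
    · obtain ⟨d, hd⟩ := Nat.exists_eq_add_of_le (show M ≤ k + M - p by omega)
      rw [hd]
      calc Ideal.span {g} ^ p * Ideal.span (t : Set A) ^ (M + d)
          ≤ m ^ p * (m ^ (M + 1) * m ^ d) := by
            rw [pow_add]
            exact mul_le_mul' (Ideal.pow_right_mono hgm p) (mul_le_mul' hM (Ideal.pow_right_mono htm' d))
        _ = m ^ (p + (M + 1 + d)) := by rw [← pow_add, ← pow_add]
        _ ≤ m ^ (k + M + 1) := Ideal.pow_le_pow_right (by omega)

lemma exists_mem_pow_notMem {A : Type*} [CommRing A] [IsDomain A] [IsNoetherianRing A]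
    [IsLocalRing A] (hA : ¬ IsField A) (t : Finset A) (ht : Ideal.span (t : Set A) = maximalIdeal A) :
    ∃ g ∈ t, g ≠ 0 ∧ ∀ k, g ^ k ∉ maximalIdeal A ^ (k + 1) := by
  have hm : ∀ g ∈ t, g ∈ maximalIdeal A := fun g hg ↦ ht ▸ Ideal.subset_span hg
  by_contra! hcon
  obtain ⟨M, hM⟩ := exists_pow_le_pow_succ (maximalIdeal A) t hm fun g hg ↦ by
    rcases eq_or_ne g 0 with rfl | hg0
    · exact ⟨1, by simp⟩
    · exact hcon g hg hg0
  rw [ht] at hM
  have hzero : maximalIdeal A ^ M = ⊥ := by
    refine Submodule.eq_bot_of_le_smul_of_le_jacobson_bot (maximalIdeal A) _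
      (IsNoetherian.noetherian _) ?_ (maximalIdeal_le_jacobson _)
    rw [smul_eq_mul, mul_comm, ← pow_succ]
    exact hM
  exact hA (isField_iff_maximalIdeal_eq.mpr (eq_bot_iff.mpr fun a ha ↦ by
    have : a ^ M ∈ maximalIdeal A ^ M := Ideal.pow_mem_pow ha M
    rw [hzero, Submodule.mem_bot] at this
    exact Submodule.mem_bot _ |>.mpr (eq_zero_of_pow_eq_zero this)))

lemma isNoetherianRing_ofPrime (B : Subring L) [IsNoetherianRing B] (P : Ideal B) [P.IsPrime] :
    IsNoetherianRing (LocalSubring.ofPrime B P).toSubring :=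
  IsLocalization.isNoetherianRing P.primeCompl _ inferInstance

lemma le_ofPrime_of_le {S : LocalSubring L} {B : Subring L} (h : S.toSubring ≤ B) (P : Ideal B)
    [P.IsPrime] (hm : (maximalIdeal S.toSubring).map (Subring.inclusion h) ≤ P) :
    S ≤ LocalSubring.ofPrime B P := by
  refine ⟨h.trans (LocalSubring.le_ofPrime _ _), ((local_hom_TFAE _).out 2 0).mp ?_⟩
  conv_rhs => rw [← IsLocalization.AtPrime.map_eq_maximalIdeal P]
  refine .trans ?_ (Ideal.map_mono hm)
  rw [Ideal.map_map]; rfl

lemma not_isField_of_le {S T : LocalSubring L} (h : S ≤ T) (hS : ¬ IsField S.toSubring) :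
    ¬ IsField T.toSubring := by
  intro hT
  refine hS (isField_iff_maximalIdeal_eq.mpr (eq_bot_iff.mpr fun a ha ↦ ?_))
  have hnu : ¬ IsUnit (Subring.inclusion h.1 a) := fun hu ↦ (mem_maximalIdeal a).mp ha (h.2.map_nonunit a hu)
  have h0 : Subring.inclusion h.1 a = 0 := by
    by_contra hne
    obtain ⟨b, hb⟩ := hT.mul_inv_cancel hne
    exact hnu (isUnit_iff_exists_inv.mpr ⟨b, hb⟩)
  exact Subtype.ext (congrArg Subtype.val h0 :)

/-- A noetherian local subring which is not a field is dominated by a one-dimensional one. -/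
lemma exists_le_dimensionLEOne (S : LocalSubring L) [IsNoetherianRing S.toSubring]
    (hS : ¬ IsField S.toSubring) :
    ∃ T : LocalSubring L, S ≤ T ∧ IsNoetherianRing T.toSubring ∧ Ring.DimensionLEOne T.toSubring := by
  classical
  let O := S.toSubring
  obtain ⟨t, ht⟩ := IsNoetherian.noetherian (maximalIdeal O)
  obtain ⟨x, hxt, hx0, hxk⟩ := exists_mem_pow_notMem hS t ht
  let G : Finset L := Finset.image (fun a : O ↦ (a : L) / (x : L)) t
  let B := Algebra.adjoin O (G : Set L)
  have hBn : IsNoetherianRing B :=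
    isNoetherianRing_of_fg (Subalgebra.fg_adjoin_finset G)
  have hxL : (x : L) ≠ 0 := fun h ↦ hx0 (Subtype.ext h)
  have key : ∀ b ∈ B, ∃ k, ∃ a ∈ maximalIdeal O ^ k, b * (x : L) ^ k = (a : L) := by
    intro b hb
    induction hb using Algebra.adjoin_induction with
    | mem y hy =>
      obtain ⟨a, ha, rfl⟩ := Finset.mem_image.mp hy
      exact ⟨1, a, by rw [pow_one, ← ht]; exact Ideal.subset_span ha, by
        rw [pow_one, div_mul_cancel₀ _ hxL]⟩
    | algebraMap r => exact ⟨0, r, by simp, by simp; rfl⟩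
    | add y z _ _ hy hz =>
      obtain ⟨k, a, ha, hka⟩ := hy
      obtain ⟨l, c, hc, hlc⟩ := hz
      have hxm : x ∈ maximalIdeal O := ht ▸ Ideal.subset_span hxt
      refine ⟨k + l, a * x ^ l + x ^ k * c, add_mem ?_ ?_, ?_⟩
      · exact pow_add (maximalIdeal O) k l ▸ Ideal.mul_mem_mul ha (Ideal.pow_mem_pow hxm l)
      · exact pow_add (maximalIdeal O) k l ▸ Ideal.mul_mem_mul (Ideal.pow_mem_pow hxm k) hc
      · push_cast; rw [← hka, ← hlc]; ring
    | mul y z _ _ hy hz =>
      obtain ⟨k, a, ha, hka⟩ := hy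
      obtain ⟨l, c, hc, hlc⟩ := hz
      exact ⟨k + l, a * c, pow_add (maximalIdeal O) k l ▸ Ideal.mul_mem_mul ha hc, by
        push_cast; rw [← hka, ← hlc]; ring⟩
  let B' : Subring L := B.toSubring
  have : IsNoetherianRing B' := hBn
  have hSB : O ≤ B' := fun r hr ↦ B.algebraMap_mem ⟨r, hr⟩
  let xB : B' := Subring.inclusion hSB x
  have hne : Ideal.span {xB} ≠ ⊤ := by
    rw [Ne, Ideal.span_singleton_eq_top]
    intro hu
    obtain ⟨⟨b, hb⟩, hxb⟩ := isUnit_iff_exists_inv.mp hu
    have hxb' : (x : L) * b = 1 := congrArg Subtype.val hxb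
    obtain ⟨k, a, ha, hka⟩ := key b hb
    rcases k with _ | j
    · refine hxk 0 ?_
      exfalso
      have : IsUnit x := isUnit_iff_exists_inv.mpr ⟨a, Subtype.ext (by
        rw [pow_zero, mul_one] at hka
        show (x : L) * (a : L) = 1
        rw [← hka, hxb'])⟩
      exact (mem_maximalIdeal x).mp (ht ▸ Ideal.subset_span hxt) this
    · refine hxk j ?_
      have : x ^ j = a := Subtype.ext (by
        push_cast
        rw [← hka, pow_succ', ← mul_assoc, mul_comm b, hxb', one_mul])
      exact this ▸ ha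
  obtain ⟨M, hMmax, hM⟩ := Ideal.exists_le_maximal _ hne
  obtain ⟨P, hP, hPM⟩ := Ideal.exists_minimalPrimes_le hM
  have := hP.isPrime
  have hmP : (maximalIdeal O).map (Subring.inclusion hSB) ≤ P := by
    rw [← ht, Ideal.map_span, Ideal.span_le]
    rintro _ ⟨a, ha, rfl⟩
    have hq : ((a : L) / (x : L)) ∈ B' := Algebra.subset_adjoin (Finset.mem_image.mpr ⟨a, ha, rfl⟩)
    have : Subring.inclusion hSB a = (⟨_, hq⟩ : B') * xB := Subtype.ext (div_mul_cancel₀ _ hxL).symm
    rw [this]
    exact P.mul_mem_left _ (hP.1.2 (Ideal.mem_span_singleton_self xB))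
  refine ⟨LocalSubring.ofPrime B' P, le_ofPrime_of_le hSB P hmP, isNoetherianRing_ofPrime B' P, ⟨?_⟩⟩
  intro q hq0 hq
  let T := (LocalSubring.ofPrime B' P).toSubring
  let q' := q.comap (algebraMap B' T)
  have hq'P : q' ≤ P := by
    have := IsLocalization.AtPrime.under_maximalIdeal T P
    exact (Ideal.comap_mono (IsLocalRing.le_maximalIdeal hq.ne_top)).trans this.le
  have hmap : q'.map (algebraMap B' T) = q := IsLocalization.map_under P.primeCompl T q
  have hq'0 : q' ≠ ⊥ := fun h ↦ hq0 (by rw [← hmap, h, Ideal.map_bot])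
  rcases hq'P.lt_or_eq with hlt | heq
  · exfalso
    have h1 : P.height ≤ (1 : ℕ) :=
      Ideal.height_le_one_of_isPrincipal_of_mem_minimalPrimes (Ideal.span {xB}) P hP
    have h2 := Ideal.height_le_iff.mp h1 q' inferInstance hlt
    exact hq'0 (Ideal.height_eq_zero_iff_eq_bot.mp (Order.lt_one_iff.mp (by exact_mod_cast h2)))
  · rw [← hmap, heq, IsLocalization.AtPrime.map_eq_maximalIdeal P]
    infer_instance

lemma exists_dvr_of_isAlgebraic (T : LocalSubring L) [IsNoetherianRing T.toSubring]
    [Ring.DimensionLEOne T.toSubring] (hT : ¬ IsField T.toSubring) (s : Finset L)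
    (hgen : Subfield.closure ((T.toSubring : Set L) ∪ s) = ⊤) (halg : ∀ a ∈ s, IsAlgebraic T.toSubring a) :
    ∃ V : ValuationSubring L, IsDiscreteValuationRing V ∧ T ≤ V.toLocalSubring := by
  classical
  have hc : ∀ a ∈ s, ∃ c : T.toSubring, c ≠ 0 ∧ IsIntegral T.toSubring (c • a) := fun a ha ↦
    (halg a ha).exists_integral_multiple
  choose! c hc0 hci using hc
  let G : Finset L := s.image fun a ↦ c a • a
  let B := Algebra.adjoin T.toSubring (G : Set L)
  have hint : ∀ y ∈ (G : Set L), IsIntegral T.toSubring y := fun y hy ↦ by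
    obtain ⟨a, ha, rfl⟩ := Finset.mem_image.mp hy
    exact hci a ha
  have : Algebra.IsIntegral T.toSubring B := Algebra.IsIntegral.adjoin hint
  have hBn : IsNoetherianRing B := isNoetherianRing_of_fg (Subalgebra.fg_adjoin_finset G)
  have hBd : Ring.DimensionLEOne B := Ring.DimensionLEOne.of_isIntegral T.toSubring B
  let B' : Subring L := B.toSubring
  have : IsNoetherianRing B' := hBn
  have : Ring.DimensionLEOne B' := hBd
  have hTB : T.toSubring ≤ B' := fun r hr ↦ B.algebraMap_mem ⟨r, hr⟩
  have hclos : Subfield.closure (B' : Set L) = ⊤ := by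
    rw [eq_top_iff, ← hgen, Subfield.closure_le]
    rintro z (hz | hz)
    · exact Subfield.subset_closure (hTB hz)
    · have h1 : c z • z ∈ Subfield.closure (B' : Set L) :=
        Subfield.subset_closure (Algebra.subset_adjoin (Finset.mem_image_of_mem _ hz))
      have h2 : ((c z : T.toSubring) : L) ∈ Subfield.closure (B' : Set L) :=
        Subfield.subset_closure (hTB (c z).2)
      have h3 : z = (c z • z) / ((c z : T.toSubring) : L) := by
        rw [Subring.smul_def, smul_eq_mul, mul_div_cancel_left₀]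
        exact fun h ↦ hc0 z hz (Subtype.ext h)
      rw [h3]
      exact div_mem h1 h2
  have : IsFractionRing B' L := isFractionRing_of_closure_eq_top subset_rfl hclos
  obtain ⟨V, hV⟩ := T.exists_le_valuationSubring
  refine ⟨V, isDiscreteValuationRing_valuationSubring (R := B') V ?_ ?_, hV⟩
  · rintro ⟨r, hr⟩
    show r ∈ V
    refine Algebra.adjoin_induction (fun y hy ↦ ?_) (fun t ↦ hV.1 t.2) (fun _ _ _ _ ↦ V.add_mem _ _)
      (fun _ _ _ _ ↦ V.mul_mem _ _) hr
    let ι : T.toSubring →+* V.toLocalSubring.toSubring := Subring.inclusion hV.1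
    let _ := ι.toAlgebra
    have : IsScalarTower T.toSubring V.toLocalSubring.toSubring L := .of_algebraMap_eq fun _ ↦ rfl
    exact LocalSubring.mem_of_isMax_of_isIntegral V.isMax_toLocalSubring (hint y hy).tower_top
  · rintro rfl
    refine not_isField_of_le hV hT ?_
    exact MulEquiv.isField (Field.toIsField L) (Subring.topEquiv (R := L)).toMulEquiv

/-- **Main theorem**: a noetherian local subring which is not a field is dominated by a discrete
valuation subring of any finitely generated field over it. -/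
theorem exists_dvr_dominating_localSubring (S : LocalSubring L) [IsNoetherianRing S.toSubring]
    (hS : ¬ IsField S.toSubring) (s : Finset L)
    (hgen : Subfield.closure ((S.toSubring : Set L) ∪ s) = ⊤) :
    ∃ V : ValuationSubring L, IsDiscreteValuationRing V ∧ S ≤ V.toLocalSubring := by
  classical
  let O := S.toSubring
  let B₀ : Subring L := (Algebra.adjoin O (s : Set L)).toSubring
  have hfr : IsFractionRing B₀ L := isFractionRing_of_closure_eq_top
    (Set.union_subset (fun r hr ↦ (Algebra.adjoin O (s : Set L)).algebraMap_mem ⟨r, hr⟩)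
      Algebra.subset_adjoin) hgen
  have : IsFractionRing (Algebra.adjoin O (s : Set L)) L := hfr
  have : Algebra.IsAlgebraic (Algebra.adjoin O (s : Set L)) L :=
    IsLocalization.isAlgebraic L (nonZeroDivisors _)
  have : FaithfulSMul O L := (faithfulSMul_iff_algebraMap_injective O L).mpr Subtype.val_injective
  obtain ⟨t, hts, ht⟩ := exists_isTranscendenceBasis_subset (R := O) (s : Set L)
  have hfin : t.Finite := s.finite_toSet.subset hts
  let A₁ := Algebra.adjoin O (Set.range ((↑) : t → L))
  let e := ht.1.aevalEquiv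
  let φ : A₁ →+* ResidueField O :=
    ((residue O).comp MvPolynomial.constantCoeff).comp e.symm.toRingEquiv.toRingHom
  have : (RingHom.ker φ).IsPrime := RingHom.ker_isPrime φ
  let A₁' : Subring L := A₁.toSubring
  have : IsNoetherianRing A₁' := by
    have : Finite t := hfin.to_subtype
    exact isNoetherianRing_of_ringEquiv (MvPolynomial t O) e.toRingEquiv
  let q : Ideal A₁' := RingHom.ker φ
  have : q.IsPrime := RingHom.ker_isPrime φ
  have hOA : O ≤ A₁' := fun r hr ↦ A₁.algebraMap_mem ⟨r, hr⟩
  have hmq : (maximalIdeal O).map (Subring.inclusion hOA) ≤ q := by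
    rw [Ideal.map_le_iff_le_comap]
    intro a ha
    show φ (algebraMap O A₁ a) = 0
    simp only [φ, RingHom.coe_comp, Function.comp_apply]
    show residue O (MvPolynomial.constantCoeff (e.symm (algebraMap O A₁ a))) = 0
    rw [AlgEquiv.commutes, MvPolynomial.algebraMap_eq, MvPolynomial.constantCoeff_C]
    exact (residue_eq_zero_iff a).mpr ha
  let S' := LocalSubring.ofPrime A₁' q
  have hSS' : S ≤ S' := le_ofPrime_of_le hOA q hmq
  have := isNoetherianRing_ofPrime A₁' q
  obtain ⟨T, hT, _, _⟩ := exists_le_dimensionLEOne S' (not_isField_of_le hSS' hS)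
  have hgen' : Subfield.closure ((T.toSubring : Set L) ∪ s) = ⊤ := by
    rw [eq_top_iff, ← hgen]
    exact Subfield.closure_mono (Set.union_subset_union_left _ (fun r hr ↦ hT.1 (hSS'.1 hr)))
  have halg : ∀ a ∈ s, IsAlgebraic T.toSubring a := fun a _ ↦ by
    have h1 : IsAlgebraic A₁' a := ht.isAlgebraic.1 a
    have hle : A₁' ≤ T.toSubring := (LocalSubring.le_ofPrime A₁' q).trans hT.1
    let _ : Algebra A₁' T.toSubring := (Subring.inclusion hle).toAlgebra
    have : IsScalarTower A₁' T.toSubring L := .of_algebraMap_eq fun _ ↦ rfl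
    exact h1.extendScalars (Subring.inclusion_injective hle)
  obtain ⟨V, hV, hTV⟩ := exists_dvr_of_isAlgebraic T
    (not_isField_of_le hT (not_isField_of_le hSS' hS)) s hgen' halg
  exact ⟨V, hV, (hSS'.trans hT).trans hTV⟩

/-- A noetherian local domain which is not a field is dominated by a discrete valuation subring of
any finitely generated field extension. -/
theorem exists_dvr_dominating {A : Type*} [CommRing A] [IsNoetherianRing A] [IsLocalRing A]
    (hA : ¬ IsField A) [Algebra A L] (hinj : Function.Injective (algebraMap A L)) (s : Finset L)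
    (hgen : Subfield.closure (Set.range (algebraMap A L) ∪ s) = ⊤) :
    ∃ V : ValuationSubring L, IsDiscreteValuationRing V ∧ (∀ a : A, algebraMap A L a ∈ V) ∧
      ∀ a ∈ maximalIdeal A, V.valuation (algebraMap A L a) < 1 := by
  let e : A ≃+* (LocalSubring.range (algebraMap A L)).toSubring :=
    RingEquiv.ofBijective ((algebraMap A L).codRestrict (LocalSubring.range (algebraMap A L)).toSubring fun a ↦ ⟨a, rfl⟩)
      ⟨fun a b h ↦ hinj (congrArg Subtype.val h), fun ⟨_, a, rfl⟩ ↦ ⟨a, rfl⟩⟩
  have : IsNoetherianRing (LocalSubring.range (algebraMap A L)).toSubring :=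
    isNoetherianRing_of_ringEquiv A e
  obtain ⟨V, hV, hle⟩ := exists_dvr_dominating_localSubring (LocalSubring.range (algebraMap A L))
    (fun h ↦ hA (MulEquiv.isField h e.toMulEquiv)) s hgen
  have hmem : ∀ a, algebraMap A L a ∈ V := fun a ↦
    hle.1 (show algebraMap A L a ∈ (LocalSubring.range (algebraMap A L)).toSubring from ⟨a, rfl⟩)
  refine ⟨V, hV, hmem, fun a ha ↦ ?_⟩
  refine (V.valuation_lt_one_iff ⟨algebraMap A L a, hmem a⟩).mp ((mem_maximalIdeal _).mpr fun hu ↦ ?_)
  refine (mem_maximalIdeal a).mp ha ?_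
  have h' : IsUnit (⟨algebraMap A L a, ⟨a, rfl⟩⟩ :
      (LocalSubring.range (algebraMap A L)).toSubring) := hle.2.map_nonunit _ hu
  exact (MulEquiv.isUnit_map e.toMulEquiv).mp h'

end GrothLib.DVRDom
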