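import Groth.Agent.Lib.DVRDom.Scheme
import Mathlib.AlgebraicGeometry.FunctionField

/-!
Centers of valuation rings of function fields and properness.
-/

universe u

open CategoryTheory CategoryTheory.Limits AlgebraicGeometry TopologicalSpace IsLocalRing

namespace GrothLib.DVRDom

variable {X Y : Scheme.{u}} [IsIntegral X]

/-- `R` dominates the image of `g`. -/
def Dominates {K : Type u} [Field K] (R : ValuationSubring K) {A : CommRingCat.{u}} [IsLocalRing A]
    (g : A →+* K) : Prop :=
  (∀ a, g a ∈ R) ∧ ∀ a ∈ maximalIdeal A, R.valuation (g a) < 1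

lemma dominates_of_isLocalHom {K : Type u} [Field K] (R : ValuationSubring K) {A : CommRingCat.{u}}
    [IsLocalRing A] (g : A →+* K) (hg : ∀ a, g a ∈ R) [IsLocalHom (g.codRestrict R.toSubring hg)] :
    Dominates R g :=
  ⟨hg, fun a ha ↦ (R.valuation_lt_one_iff ⟨g a, hg a⟩).mp ((mem_maximalIdeal _).mpr fun hu ↦
    (mem_maximalIdeal a).mp ha (IsLocalHom.map_nonunit (f := g.codRestrict R.toSubring hg) a hu))⟩

lemma isLocalHom_of_dominates {K : Type u} [Field K] (R : ValuationSubring K) {A : CommRingCat.{u}}
    [IsLocalRing A] (g : A →+* K) (h : Dominates R g) : IsLocalHom (g.codRestrict R.toSubring h.1) := by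
  refine ⟨fun a ha ↦ ?_⟩
  by_contra hu
  have h1 := (R.valuation_lt_one_iff ⟨g a, h.1 a⟩).mpr (h.2 a ((mem_maximalIdeal a).mpr hu))
  exact (mem_maximalIdeal _).mp h1 ha

lemma exists_toResidue_dominates_eq (f : X ⟶ Y) (y : Y) (hy : f.base (genericPoint X) ⤳ y) :
    toResidue f (genericPoint X) y hy =
      (Y.presheaf.stalkSpecializes hy ≫ f.stalkMap (genericPoint X)) ≫ X.residue (genericPoint X) :=
  (Category.assoc _ _ _).symm

theorem isProper_of_center [IsIntegral Y] [X.IsSeparated] [Y.IsSeparated] (f : X ⟶ Y)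
    [LocallyOfFiniteType f] [QuasiCompact f]
    (P : ∀ v : X, ValuationSubring (X.residueField v) → Prop)
    (Q : ValuationSubring X.functionField → Prop)
    (hPQ : ∀ (e : X.functionField →+* X.residueField (genericPoint X)), Function.Bijective e →
      ∀ V, P (genericPoint X) V → Q (V.comap e))
    (hP : ∀ (v : X) (V₀ : Y.Opens) (_ : IsAffineOpen V₀)
      (hq : ((X.fromSpecResidueField v ≫ 𝟙 X) ≫ f).base (closedPoint (X.residueField v)) ∈ V₀)
      (C : LocalSubring (X.residueField v)), ¬ IsField C.toSubring →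
      (∀ b, (ev (L := X.residueField v)
        ((X.fromSpecResidueField v ≫ 𝟙 X) ≫ f) V₀ hq).hom b ∈ C.toSubring) →
      (IsNoetherianRing Γ(Y, V₀) → IsNoetherianRing C.toSubring) →
      ∃ V, P v V ∧ C ≤ V.toLocalSubring)
    (h : ∀ (R : ValuationSubring X.functionField), Q R →
      ∀ (y : Y) (hy : f.base (genericPoint X) ⤳ y),
        Dominates R (Y.presheaf.stalkSpecializes hy ≫ f.stalkMap (genericPoint X)).hom →
        ∃ x : X, Dominates R (algebraMap (X.presheaf.stalk x) X.functionField)) :
    IsProper f := by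
  let ξ := genericPoint X
  have : IsSeparated f := by
    have : IsSeparated (f ≫ terminal.from Y) := by
      rw [terminal.hom_ext (f ≫ terminal.from Y) (terminal.from X)]; infer_instance
    exact IsSeparated.of_comp f (terminal.from Y)
  have : UniversallyClosed f := by
    refine UniversallyClosed.of_valuativeCriterion f (existence_of_lifts_of_isSeparated f (𝟙 X)
      (fun v ↦ v = ξ) (fun x ↦ ⟨ξ, rfl, genericPoint_specializes x⟩) P hP ?_)
    rintro v V rfl hPV y w
    have w' : Spec.map (CommRingCat.ofHom V.subtype) ≫ y = X.fromSpecResidueField ξ ≫ f :=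
      w.trans (congrArg (· ≫ f) (Category.comp_id _))
    let e : X.functionField →+* X.residueField ξ := (X.residue ξ).hom
    have he : Function.Bijective e := ⟨e.injective, X.residue_surjective ξ⟩
    let y₀ : Y := y.base (closedPoint V)
    have hy : f.base ξ ⤳ y₀ := by
      have h1 : f.base ξ = y.base ((Spec.map (CommRingCat.ofHom V.subtype)).base
          (closedPoint (X.residueField ξ))) := by
        have := congrArg (fun g ↦ g.base (closedPoint (X.residueField ξ))) w'
        refine Eq.trans ?_ this.symm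
        exact congrArg f.base (Scheme.fromSpecResidueField_apply ξ _).symm
      rw [h1]
      exact (specializes_closedPoint _).map y.continuous
    let ψ : Y.presheaf.stalk y₀ ⟶ .of V := Scheme.stalkClosedPointTo y
    have hψ : ψ ≫ CommRingCat.ofHom V.subtype = toResidue f ξ y₀ hy := by
      apply Spec.map_injective
      rw [← cancel_mono (Y.fromSpecStalk y₀), Spec.map_comp, Category.assoc,
        specMap_toResidue, ← w']
      congr 1
      exact Scheme.Spec_stalkClosedPointTo_fromSpecStalk y
    have hmem : ∀ a, (Y.presheaf.stalkSpecializes hy ≫ f.stalkMap ξ).hom a ∈ V.comap e := fun a ↦ by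
      show (toResidue f ξ y₀ hy).hom a ∈ V
      rw [← hψ]
      exact (ψ.hom a).2
    have hdom : Dominates (V.comap e) (Y.presheaf.stalkSpecializes hy ≫ f.stalkMap ξ).hom := by
      refine ⟨hmem, fun a ha ↦ ?_⟩
      refine ((V.comap e).valuation_lt_one_iff ⟨_, hmem a⟩).mp ((mem_maximalIdeal _).mpr fun hu ↦ ?_)
      refine (mem_maximalIdeal a).mp ha ?_
      refine (Scheme.isLocalHom_stalkClosedPointTo y).map_nonunit a ?_
      obtain ⟨b, hb⟩ := hu.exists_right_inv
      refine isUnit_iff_exists_inv.mpr ⟨⟨e b.1, b.2⟩, Subtype.ext ?_⟩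
      show (ψ.hom a).1 * e b.1 = 1
      rw [show (ψ.hom a).1 = (toResidue f ξ y₀ hy).hom a from ConcreteCategory.congr_hom hψ a]
      exact ((map_mul e _ _).symm.trans (congrArg e (congrArg Subtype.val hb))).trans (map_one e)
    obtain ⟨x, hx⟩ := h (V.comap e) (hPQ e he V hPV) y₀ hy hdom
    let g : X.presheaf.stalk x →+* V :=
      (e.comp (algebraMap (X.presheaf.stalk x) X.functionField)).codRestrict V.toSubring hx.1
    let l : Spec (.of V) ⟶ X := Spec.map (CommRingCat.ofHom g) ≫ X.fromSpecStalk x
    have hlq : Spec.map (CommRingCat.ofHom V.subtype) ≫ l = X.fromSpecResidueField ξ := by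
      show _ ≫ _ ≫ _ = _
      rw [← Category.assoc, ← Spec.map_comp]
      show Spec.map (X.presheaf.stalkSpecializes (genericPoint_specializes x) ≫ X.residue ξ) ≫ _ = _
      rw [Spec.map_comp, Category.assoc, Scheme.SpecMap_stalkSpecializes_fromSpecStalk]
      rfl
    refine ⟨l, ?_, hlq.trans (Category.comp_id _).symm⟩
    have h0 : Spec.map (CommRingCat.ofHom (algebraMap V (X.residueField ξ))) ≫ (l ≫ f) =
        Spec.map (CommRingCat.ofHom (algebraMap V (X.residueField ξ))) ≫ y :=
      ((Category.assoc _ _ _).symm.trans (congrArg (· ≫ f) hlq)).trans w'.symm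
    exact eq_of_isSeparated (terminal.from Y) (l ≫ f) y (terminal.hom_ext _ _) h0
  exact {}

/-- Centers exist for universally closed morphisms. -/
theorem exists_center (f : X ⟶ Y) [UniversallyClosed f]
    (R : ValuationSubring X.functionField) (y : Y) (hy : f.base (genericPoint X) ⤳ y)
    (hdom : Dominates R (Y.presheaf.stalkSpecializes hy ≫ f.stalkMap (genericPoint X)).hom) :
    ∃ x : X, Dominates R (algebraMap (X.presheaf.stalk x) X.functionField) := by
  let ξ := genericPoint X
  let g := (Y.presheaf.stalkSpecializes hy ≫ f.stalkMap ξ).hom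
  let y' : Spec (.of R) ⟶ Y :=
    Spec.map (CommRingCat.ofHom (g.codRestrict R.toSubring hdom.1)) ≫ Y.fromSpecStalk y
  let q : Spec (.of X.functionField) ⟶ X := X.fromSpecStalk ξ
  have w : q ≫ f = Spec.map (CommRingCat.ofHom (algebraMap R X.functionField)) ≫ y' := by
    rw [← Category.assoc, ← Spec.map_comp]
    show _ = Spec.map (Y.presheaf.stalkSpecializes hy ≫ f.stalkMap ξ) ≫ _
    rw [Spec.map_comp, Category.assoc, Scheme.SpecMap_stalkSpecializes_fromSpecStalk,
      Scheme.SpecMap_stalkMap_fromSpecStalk]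
  have hE : ValuativeCriterion.Existence f :=
    (UniversallyClosed.eq_valuativeCriterion.{u}.le _ _ _ inferInstance).1
  obtain ⟨l, -, hl⟩ := exists_lift_of_existence hE q y' w
  let x : X := l.base (closedPoint R)
  let ψ : X.presheaf.stalk x ⟶ .of R := Scheme.stalkClosedPointTo l
  have hψ : ψ ≫ CommRingCat.ofHom (algebraMap R X.functionField) =
      X.presheaf.stalkSpecializes (genericPoint_specializes x) := by
    apply Spec.map_injective
    rw [← cancel_mono (X.fromSpecStalk x), Spec.map_comp, Category.assoc,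
      Scheme.SpecMap_stalkSpecializes_fromSpecStalk]
    exact (congrArg (_ ≫ ·) (Scheme.Spec_stalkClosedPointTo_fromSpecStalk l)).trans hl
  have hm : ∀ a, algebraMap (X.presheaf.stalk x) X.functionField a ∈ R := fun a ↦ by
    show (X.presheaf.stalkSpecializes (genericPoint_specializes x)).hom a ∈ R
    rw [← hψ]
    exact (ψ.hom a).2
  refine ⟨x, hm, fun a ha ↦ (R.valuation_lt_one_iff ⟨_, hm a⟩).mp ((mem_maximalIdeal _).mpr fun hu ↦
    (mem_maximalIdeal a).mp ha ((Scheme.isLocalHom_stalkClosedPointTo l).map_nonunit a ?_))⟩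
  have : (ψ.hom a : R) = ⟨_, hm a⟩ := Subtype.ext (ConcreteCategory.congr_hom hψ a)
  exact this ▸ hu

end GrothLib.DVRDom
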