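import Groth.Agent.Lib.DVRDom.Scheme
import Groth.Agent.Lib.CMFree.Regular
import Mathlib.AlgebraicGeometry.SpreadingOut
import Mathlib.AlgebraicGeometry.Morphisms.Separated
import Mathlib.RingTheory.DiscreteValuationRing.TFAE
import Mathlib.RingTheory.KrullDimension.Field

/-!
Extension of rational maps over points whose local ring is a valuation ring.
-/

universe u

open CategoryTheory CategoryTheory.Limits AlgebraicGeometry TopologicalSpace IsLocalRing

namespace GrothLib.DVRDom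

variable {X Y S : Scheme.{u}}

lemma eq_of_le_closure [IsReduced Y] (p : X ⟶ S) [IsSeparated p] {W N : Y.Opens} (hNW : N ≤ W)
    (hW : (W : Set Y) ⊆ closure N) (a b : (W : Scheme.{u}) ⟶ X) (h : a ≫ p = b ≫ p)
    (h' : Y.homOfLE hNW ≫ a = Y.homOfLE hNW ≫ b) : a = b := by
  have : IsDominant (Y.homOfLE hNW) := by
    refine ⟨fun z ↦ ?_⟩
    rw [W.ι.isOpenEmbedding.isInducing.closure_eq_preimage_closure_image, Set.mem_preimage,
      ← Set.range_comp, ← TopCat.coe_comp, ← Scheme.Hom.comp_base, Scheme.homOfLE_ι,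
      Scheme.Opens.range_ι]
    exact hW z.2
  exact ext_of_isDominant_of_isSeparated p h (Y.homOfLE hNW) h'

/-- A lift for a square whose valuation ring is a stalk, given a point over the closed point. -/
lemma exists_lift_stalk (f : X ⟶ Y) (x' : X) [IsDomain (Y.presheaf.stalk (f.base x'))]
    [ValuationRing (Y.presheaf.stalk (f.base x'))] {K : Type u} [Field K]
    [Algebra (Y.presheaf.stalk (f.base x')) K] [IsFractionRing (Y.presheaf.stalk (f.base x')) K]
    (i₁ : Spec (.of K) ⟶ X)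
    (w : i₁ ≫ f = Spec.map (CommRingCat.ofHom (algebraMap (Y.presheaf.stalk (f.base x')) K)) ≫
      Y.fromSpecStalk (f.base x'))
    (hsp : i₁.base (closedPoint K) ⤳ x') :
    ∃ l : Spec (Y.presheaf.stalk (f.base x')) ⟶ X,
      Spec.map (CommRingCat.ofHom (algebraMap (Y.presheaf.stalk (f.base x')) K)) ≫ l = i₁ ∧
      l ≫ f = Y.fromSpecStalk (f.base x') := by
  let R := Y.presheaf.stalk (f.base x')
  let χ : X.presheaf.stalk x' ⟶ .of K :=
    X.presheaf.stalkSpecializes hsp ≫ Scheme.stalkClosedPointTo i₁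
  have hχ : Spec.map χ ≫ X.fromSpecStalk x' = i₁ := by
    rw [Spec.map_comp, Category.assoc, Scheme.SpecMap_stalkSpecializes_fromSpecStalk,
      Scheme.Spec_stalkClosedPointTo_fromSpecStalk]
  have hfχ : f.stalkMap x' ≫ χ = CommRingCat.ofHom (algebraMap R K) := by
    apply Spec.map_injective
    rw [← cancel_mono (Y.fromSpecStalk (f.base x')), Spec.map_comp, Category.assoc,
      Scheme.SpecMap_stalkMap_fromSpecStalk, ← Category.assoc, hχ]
    exact w
  have hr : ∀ a, χ.hom a ∈ (algebraMap R K).range := by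
    intro a
    by_contra ha
    have hne : χ.hom a ≠ 0 := fun h0 ↦ ha (h0 ▸ zero_mem _)
    obtain ⟨r, hr⟩ : IsLocalization.IsInteger R (χ.hom a)⁻¹ :=
      (ValuationRing.isInteger_or_isInteger R _).resolve_left fun ⟨r, hr⟩ ↦ ha ⟨r, hr⟩
    have hru : ¬ IsUnit r := fun hu ↦ ha ⟨↑hu.unit⁻¹, by
      rw [← inv_inv (χ.hom a), ← hr]
      exact eq_inv_of_mul_eq_one_left (by rw [← map_mul, hu.val_inv_mul, map_one])⟩
    let z := (f.stalkMap x').hom r * a - 1
    have hz : χ.hom z = 0 := by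
      have h4 : χ.hom ((f.stalkMap x').hom r) = algebraMap R K r := ConcreteCategory.congr_hom hfχ r
      rw [map_sub, map_mul, map_one, h4, hr, inv_mul_cancel₀ hne, sub_self]
    have hz' : IsUnit z := by
      by_contra h
      have h7 : (f.stalkMap x').hom r * a ∈ maximalIdeal (X.presheaf.stalk x') :=
        Ideal.mul_mem_right _ _ ((mem_maximalIdeal _).mpr fun hu ↦
          hru ((isUnit_map_iff (f.stalkMap x').hom r).mp hu))
      have h8 := sub_mem h7 ((mem_maximalIdeal z).mpr h)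
      rw [sub_sub_cancel] at h8
      exact (mem_maximalIdeal _).mp h8 isUnit_one
    exact (hz'.map χ.hom).ne_zero hz
  choose d hd using hr
  have hinj : Function.Injective (algebraMap R K) := IsFractionRing.injective R K
  let D : X.presheaf.stalk x' ⟶ R := CommRingCat.ofHom
    { toFun := d
      map_one' := hinj ((hd _).trans ((map_one χ.hom).trans (map_one (algebraMap R K)).symm))
      map_mul' := fun a b ↦ hinj ((hd _).trans ((map_mul χ.hom a b).trans
        ((congrArg₂ (· * ·) (hd a) (hd b)).symm.trans (map_mul (algebraMap R K) _ _).symm)))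
      map_zero' := hinj ((hd _).trans ((map_zero χ.hom).trans (map_zero (algebraMap R K)).symm))
      map_add' := fun a b ↦ hinj ((hd _).trans ((map_add χ.hom a b).trans
        ((congrArg₂ (· + ·) (hd a) (hd b)).symm.trans (map_add (algebraMap R K) _ _).symm))) }
  have hD : D ≫ CommRingCat.ofHom (algebraMap R K) = χ := by ext a; exact hd a
  have hfD : f.stalkMap x' ≫ D = 𝟙 R := by
    ext r
    exact hinj ((hd _).trans (ConcreteCategory.congr_hom hfχ r))
  refine ⟨Spec.map D ≫ X.fromSpecStalk x', ?_, ?_⟩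
  · rw [← Category.assoc, ← Spec.map_comp]
    exact (congrArg (Spec.map · ≫ X.fromSpecStalk x') hD).trans hχ
  · rw [Category.assoc, ← Scheme.SpecMap_stalkMap_fromSpecStalk, ← Category.assoc, ← Spec.map_comp,
      hfD, Spec.map_id, Category.id_comp]

/-- **Extension theorem**: a section over a dense open of a separated morphism of finite type which is
a closed map extends over all points whose local ring is a valuation ring. -/
theorem exists_extension_section [IsReduced Y] [IsLocallyNoetherian Y] (f : X ⟶ Y) [IsSeparated f]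
    [LocallyOfFiniteType f] (hcl : IsClosedMap f.base) (V : Y.Opens) (hV : Dense (V : Set Y))
    (s : (V : Scheme.{u}) ⟶ X) (hs : s ≫ f = V.ι) :
    ∃ (U : Y.Opens) (hVU : V ≤ U) (s' : (U : Scheme.{u}) ⟶ X), s' ≫ f = U.ι ∧ Y.homOfLE hVU ≫ s' = s ∧
      ∀ y : Y, ∀ _ : IsDomain (Y.presheaf.stalk y), ValuationRing (Y.presheaf.stalk y) → y ∈ U := by
  let I := {P : Σ W : Y.Opens, (W : Scheme.{u}) ⟶ X //
    P.2 ≫ f = P.1.ι ∧ Y.homOfLE (inf_le_left : P.1 ⊓ V ≤ P.1) ≫ P.2 = Y.homOfLE inf_le_right ≫ s}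
  let D : Y.Opens := ⨆ P : I, P.1.1
  have hle : ∀ P : I, P.1.1 ≤ D := fun P ↦ le_iSup (fun P : I ↦ P.1.1) P
  let 𝒰 : D.toScheme.OpenCover :=
    { I₀ := I
      X := fun P ↦ P.1.1.toScheme
      f := fun P ↦ Y.homOfLE (hle P)
      mem₀ := by
        rw [Scheme.presieve₀_mem_precoverage_iff]
        refine ⟨fun x ↦ ?_, inferInstance⟩
        obtain ⟨P, hx⟩ := TopologicalSpace.Opens.mem_iSup.mp x.2
        exact ⟨P, ⟨x.1, hx⟩, Subtype.ext (by simp)⟩ }
  have hcompat : ∀ P Q : 𝒰.I₀, Limits.pullback.fst (𝒰.f P) (𝒰.f Q) ≫ P.1.2 =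
      Limits.pullback.snd (𝒰.f P) (𝒰.f Q) ≫ Q.1.2 := by
    intro P Q
    refine (cancel_epi (isPullback_opens_inf_le (hle P) (hle Q)).isoPullback.hom).mp ?_
    simp only [𝒰, IsPullback.isoPullback_hom_fst_assoc, IsPullback.isoPullback_hom_snd_assoc]
    refine eq_of_le_closure f (N := P.1.1 ⊓ Q.1.1 ⊓ V) inf_le_left ?_ _ _ ?_ ?_
    · intro z hz
      exact hV.open_subset_closure_inter (P.1.1 ⊓ Q.1.1).2 hz
    · rw [Category.assoc, Category.assoc, P.2.1, Q.2.1, Scheme.homOfLE_ι, Scheme.homOfLE_ι]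
    · simp only [← Category.assoc, Scheme.homOfLE_homOfLE]
      have h1 : Y.homOfLE (show P.1.1 ⊓ Q.1.1 ⊓ V ≤ P.1.1 from inf_le_left.trans inf_le_left) ≫ P.1.2 =
          Y.homOfLE (show P.1.1 ⊓ Q.1.1 ⊓ V ≤ V from inf_le_right) ≫ s := by
        rw [← Scheme.homOfLE_homOfLE Y (show P.1.1 ⊓ Q.1.1 ⊓ V ≤ P.1.1 ⊓ V from
          inf_le_inf_right V inf_le_left) inf_le_left, Category.assoc, P.2.2, Scheme.homOfLE_homOfLE_assoc]
      have h2 : Y.homOfLE (show P.1.1 ⊓ Q.1.1 ⊓ V ≤ Q.1.1 from inf_le_left.trans inf_le_right) ≫ Q.1.2 =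
          Y.homOfLE (show P.1.1 ⊓ Q.1.1 ⊓ V ≤ V from inf_le_right) ≫ s := by
        rw [← Scheme.homOfLE_homOfLE Y (show P.1.1 ⊓ Q.1.1 ⊓ V ≤ Q.1.1 ⊓ V from
          inf_le_inf_right V inf_le_right) inf_le_left, Category.assoc, Q.2.2, Scheme.homOfLE_homOfLE_assoc]
      exact h1.trans h2.symm
  let s' : (D : Scheme.{u}) ⟶ X := 𝒰.glueMorphisms (fun P ↦ P.1.2) hcompat
  have hι : ∀ P : I, Y.homOfLE (hle P) ≫ s' = P.1.2 := fun P ↦ 𝒰.ι_glueMorphisms _ hcompat P
  let PV : I := ⟨⟨V, s⟩, hs, rfl⟩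
  refine ⟨D, hle PV, s', ?_, hι PV, ?_⟩
  · refine 𝒰.hom_ext _ _ fun P ↦ ?_
    show Y.homOfLE (hle P) ≫ s' ≫ f = Y.homOfLE (hle P) ≫ D.ι
    rw [reassoc_of% (hι P), Scheme.homOfLE_ι]
    exact P.2.1
  intro y hyd hyv
  let K := FractionRing (Y.presheaf.stalk y)
  let j : Spec (.of K) ⟶ Y :=
    Spec.map (CommRingCat.ofHom (algebraMap (Y.presheaf.stalk y) K)) ≫ Y.fromSpecStalk y
  let η : Y := j.base (closedPoint K)
  have hgen : ∀ z : Y, z ⤳ y → η ⤳ z := by
    intro z hz
    obtain ⟨q, rfl⟩ := (Scheme.range_fromSpecStalk (x := y)).ge hz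
    refine Specializes.map (?_ : _ ⤳ q) (Y.fromSpecStalk y).continuous
    refine (PrimeSpectrum.le_iff_specializes
      (PrimeSpectrum.comap (algebraMap (Y.presheaf.stalk y) K) (closedPoint K))
      (show PrimeSpectrum (Y.presheaf.stalk y) from q)).mp fun a ha ↦ ?_
    have ha' : algebraMap (Y.presheaf.stalk y) K a ∈ maximalIdeal K := ha
    rw [maximalIdeal_eq_bot, Submodule.mem_bot] at ha'
    rw [(IsFractionRing.injective (Y.presheaf.stalk y) K).eq_iff' (map_zero _) |>.mp ha']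
    exact zero_mem _
  have hηy : η ⤳ y := hgen y specializes_rfl
  have : QuasiCompact V.ι := inferInstance
  have hηV : η ∈ V := by
    obtain ⟨v, hv⟩ := exists_specializes_of_mem_closure V.ι y (by rw [Scheme.Opens.range_ι]; exact hV y)
    exact (hgen _ hv).mem_open V.2 v.2
  let jV : Spec (.of K) ⟶ V := IsOpenImmersion.lift V.ι j (by
    rw [Scheme.Opens.range_ι]
    rintro _ ⟨z, rfl⟩
    rw [show z = closedPoint K from (inferInstance : Subsingleton (PrimeSpectrum K)).elim z (closedPoint K)]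
    exact hηV)
  have hjV : jV ≫ V.ι = j := IsOpenImmersion.lift_fac _ _ _
  have hη' : f.base ((jV ≫ s).base (closedPoint K)) ⤳ y := by
    rw [← Scheme.Hom.comp_apply, Category.assoc, hs, hjV]
    exact hηy
  obtain ⟨x', hx'sp, rfl⟩ := hcl.specializingMap hη'
  obtain ⟨l, hlK, hlf⟩ := exists_lift_stalk f x' (K := K) (jV ≫ s)
    (by rw [Category.assoc, hs, hjV]) hx'sp
  obtain ⟨W, hyW, h, hlh, hhf⟩ := spread_out_of_isGermInjective' (x := f.base x') (𝟙 Y) f l
    (by rw [hlf, Category.comp_id])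
  rw [Category.comp_id] at hhf
  have hηW : η ∈ W := hηy.mem_open W.2 hyW
  let jW : Spec (.of K) ⟶ W :=
    Spec.map (CommRingCat.ofHom (algebraMap (Y.presheaf.stalk (f.base x')) K)) ≫ W.fromSpecStalkOfMem _ hyW
  have hjW : jW ≫ W.ι = j := by
    rw [Category.assoc, Scheme.Opens.fromSpecStalkOfMem_ι]
  let jWV : Spec (.of K) ⟶ (W ⊓ V : Y.Opens) := IsOpenImmersion.lift (W ⊓ V).ι j (by
    rw [Scheme.Opens.range_ι]
    rintro _ ⟨z, rfl⟩
    rw [show z = closedPoint K from (inferInstance : Subsingleton (PrimeSpectrum K)).elim z (closedPoint K)]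
    exact ⟨hηW, hηV⟩)
  have hjWV : jWV ≫ (W ⊓ V).ι = j := IsOpenImmersion.lift_fac _ _ _
  have e1 : jWV ≫ Y.homOfLE inf_le_left = jW := by
    rw [← cancel_mono W.ι, Category.assoc, Scheme.homOfLE_ι, hjWV, hjW]
  have e2 : jWV ≫ Y.homOfLE inf_le_right = jV := by
    rw [← cancel_mono V.ι, Category.assoc, Scheme.homOfLE_ι, hjWV, hjV]
  let a := Y.homOfLE (inf_le_left : W ⊓ V ≤ W) ≫ h
  let b := Y.homOfLE (inf_le_right : W ⊓ V ≤ V) ≫ s
  have hab : jWV ≫ a = jWV ≫ b := by
    rw [← Category.assoc, ← Category.assoc, e1, e2, ← hlK, hlh, Category.assoc]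
  let ηWV : (W ⊓ V : Y.Opens).toScheme := jWV.base (closedPoint K)
  have hηWV : (W ⊓ V).ι.base ηWV = η := by
    rw [← Scheme.Hom.comp_apply, hjWV]
  have he : a.base ηWV = b.base ηWV := by
    rw [← Scheme.Hom.comp_apply, hab, Scheme.Hom.comp_apply]
  -- agreement near the generic point
  let WV : Scheme.{u} := (W ⊓ V : Y.Opens).toScheme
  let χ : WV.presheaf.stalk ηWV ⟶ .of K := Scheme.stalkClosedPointTo jWV
  have hχ : Spec.map χ ≫ WV.fromSpecStalk ηWV = jWV := Scheme.Spec_stalkClosedPointTo_fromSpecStalk jWV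
  have hone : ∀ z, (Spec.map χ).base (closedPoint K) = z := by
    intro z
    apply (WV.fromSpecStalk ηWV).isEmbedding.injective
    apply (W ⊓ V).ι.isOpenEmbedding.injective
    have h1 : (W ⊓ V).ι.base ((WV.fromSpecStalk ηWV).base z) ⤳ η := by
      rw [← hηWV]
      exact ((Scheme.range_fromSpecStalk (X := WV) (x := ηWV)).le ⟨z, rfl⟩ : _ ⤳ ηWV).map
        (W ⊓ V).ι.continuous
    rw [← Scheme.Hom.comp_apply (Spec.map χ), hχ, hηWV]
    exact ((hgen _ (h1.trans hηy)).antisymm h1).eq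
  have : IsDominant (Spec.map χ) := ⟨fun z ↦ subset_closure ⟨closedPoint K, hone z⟩⟩
  have : IsReduced (Spec (WV.presheaf.stalk ηWV)) := inferInstance
  have hst : WV.fromSpecStalk ηWV ≫ a = WV.fromSpecStalk ηWV ≫ b := by
    refine ext_of_isDominant_of_isSeparated f ?_ (Spec.map χ) ?_
    · simp only [a, b, Category.assoc, hhf, hs, Scheme.homOfLE_ι]
    · exact ((Category.assoc _ _ _).symm.trans (congrArg (· ≫ a) hχ)).trans
        (hab.trans ((Category.assoc _ _ _).symm.trans (congrArg (· ≫ b) hχ)).symm)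
  obtain ⟨N₀, hηN, hN⟩ := spread_out_unique_of_isGermInjective' a b hst
  let N : Y.Opens := (W ⊓ V).ι ''ᵁ N₀
  have hηN' : η ∈ N := ⟨ηWV, hηN, hηWV⟩
  have hNWV : N ≤ W ⊓ V := Scheme.Opens.ι_image_le (W ⊓ V) N₀
  let W' : Y.Opens := W ⊓ ⟨interior (closure (N : Set Y)), isOpen_interior⟩
  have hyW' : f.base x' ∈ W' := by
    refine ⟨hyW, ?_⟩
    show f.base x' ∈ interior (closure (N : Set Y))
    rw [interior_eq_compl_closure_compl]
    intro hy
    let O : Y.Opens := ⟨(closure (N : Set Y))ᶜ, isClosed_closure.isOpen_compl⟩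
    obtain ⟨v, hv⟩ := exists_specializes_of_mem_closure O.ι (f.base x') (by rw [Scheme.Opens.range_ι]; exact hy)
    exact v.2 ((closure_mono (Set.singleton_subset_iff.mpr hηN')) (hgen _ hv).mem_closure)
  have hN' : Y.homOfLE hNWV ≫ a = Y.homOfLE hNWV ≫ b := by
    have := congrArg (fun g ↦ ((W ⊓ V).ι.isoImage N₀).inv ≫ g) hN
    simp only [← Category.assoc] at this
    have e : ((W ⊓ V).ι.isoImage N₀).inv ≫ N₀.ι = Y.homOfLE hNWV := by
      rw [← cancel_mono (W ⊓ V).ι, Category.assoc, Scheme.homOfLE_ι]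
      exact Scheme.Hom.isoImage_inv_ι _ _
    rwa [e] at this
  have hagree : Y.homOfLE (inf_le_left : W' ⊓ V ≤ W') ≫ (Y.homOfLE (inf_le_left : W' ≤ W) ≫ h) =
      Y.homOfLE (inf_le_right : W' ⊓ V ≤ V) ≫ s := by
    have hle' : W' ⊓ V ≤ W ⊓ V := inf_le_inf_right V inf_le_left
    refine eq_of_le_closure f (N := W' ⊓ V ⊓ N) inf_le_left ?_ _ _ ?_ ?_
    · intro z hz
      exact closure_mono (s := ((W' ⊓ V : Y.Opens) : Set Y) ∩ (N : Set Y)) subset_rfl
        ((W' ⊓ V).2.inter_closure ⟨hz, interior_subset hz.1.2⟩)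
    · simp only [Category.assoc, hhf, hs, Scheme.homOfLE_ι]
    · have := congrArg (fun g ↦ Y.homOfLE (inf_le_right : W' ⊓ V ⊓ N ≤ N) ≫ g) hN'
      simpa [a, b, Scheme.homOfLE_homOfLE_assoc] using this
  exact hle ⟨⟨W', Y.homOfLE inf_le_left ≫ h⟩,
    by rw [Category.assoc, hhf, Scheme.homOfLE_ι], hagree⟩ hyW'

end GrothLib.DVRDom

namespace GrothLib.DVRDom

/-- A regular local ring of dimension at most one is a valuation ring. -/
lemma valuationRing_of_isRegularLocalRing (R : Type u) [CommRing R] [IsRegularLocalRing R]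
    [IsDomain R] (h : ringKrullDim R ≤ 1) : ValuationRing R := by
  have hp : (maximalIdeal R).IsPrincipal := by
    have h1 : (maximalIdeal R).spanFinrank ≤ 1 := by
      have h2 := IsRegularLocalRing.spanFinrank_maximalIdeal (R := R)
      rw [← h2] at h
      exact_mod_cast h
    have hfg : Submodule.FG (maximalIdeal R : Submodule R R) := IsNoetherian.noetherian _
    have hcard := hfg.generators_ncard
    have := hfg.finite_generators.to_subtype
    obtain h0 | ⟨a, ha⟩ := Set.ncard_le_one_iff_subsingleton.mp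
      (hcard.trans_le h1) |>.eq_empty_or_singleton
    · exact ⟨⟨0, by rw [← Submodule.span_generators (maximalIdeal R), h0]; simp⟩⟩
    · exact ⟨⟨a, by rw [← Submodule.span_generators (maximalIdeal R), ha]⟩⟩
  exact ((tfae_of_isNoetherianRing_of_isLocalRing_of_isDomain R).out 1 4).mpr hp

/-- An integrally closed noetherian local domain of dimension at most one is a valuation ring. -/
lemma valuationRing_of_isIntegrallyClosed (R : Type u) [CommRing R] [IsNoetherianRing R] [IsLocalRing R]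
    [IsDomain R] [IsIntegrallyClosed R] (h : ringKrullDim R ≤ 1) : ValuationRing R := by
  have h13 : ValuationRing R ↔
      IsIntegrallyClosed R ∧ ∀ P : Ideal R, P ≠ ⊥ → P.IsPrime → P = maximalIdeal R :=
    (tfae_of_isNoetherianRing_of_isLocalRing_of_isDomain R).out 1 3
  refine h13.mpr ⟨inferInstance, fun P hP0 hP ↦ ?_⟩
  have : Ring.KrullDimLE 1 R := Ring.krullDimLE_iff.mpr h
  exact eq_maximalIdeal (Ring.krullDimLE_one_iff_of_noZeroDivisors.mp this P hP0 hP)

end GrothLib.DVRDom
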