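import Groth.Agent.Lib.DVRDom.Exists
import Mathlib.AlgebraicGeometry.ValuativeCriterion
import Mathlib.AlgebraicGeometry.Noetherian

/-!
The algebraic core of the valuative criteria with restricted classes of valuation rings: given a
valuative square without a lift, we construct finitely many elements forcing the non-existence of a
lift for a valuation ring of a prescribed class.
-/

universe u

open CategoryTheory AlgebraicGeometry TopologicalSpace IsLocalRing

namespace GrothLib.DVRDom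

variable {X S : Scheme.{u}}

/-- Evaluation of sections at a field valued point. -/
noncomputable def ev {L : Type u} [Field L] (q : Spec (.of L) ⟶ X) (U : X.Opens)
    (h : q.base (closedPoint L) ∈ U) : Γ(X, U) ⟶ .of L :=
  X.presheaf.germ U _ h ≫ Scheme.stalkClosedPointTo q

lemma specMap_ev {L : Type u} [Field L] (q : Spec (.of L) ⟶ X) {U : X.Opens} (hU : IsAffineOpen U)
    (h : q.base (closedPoint L) ∈ U) : Spec.map (ev q U h) ≫ hU.fromSpec = q := by
  rw [ev, Spec.map_comp, Category.assoc]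
  show _ ≫ hU.fromSpecStalk h = q
  rw [hU.fromSpecStalk_eq_fromSpecStalk, Scheme.Spec_stalkClosedPointTo_fromSpecStalk]

lemma specMap_injective {A : CommRingCat.{u}} {U : X.Opens} (hU : IsAffineOpen U)
    {φ ψ : Γ(X, U) ⟶ A} (h : Spec.map φ ≫ hU.fromSpec = Spec.map ψ ≫ hU.fromSpec) : φ = ψ := by
  rw [cancel_mono] at h
  exact Spec.map_injective h

lemma mem_of_closedPoint_mem {A : Type u} [CommRing A] [IsLocalRing A] (g : Spec (.of A) ⟶ X)
    {W : X.Opens} (h : g.base (closedPoint A) ∈ W) (z : Spec (CommRingCat.of A)) : g.base z ∈ W :=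
  ((specializes_closedPoint (R := A) z).map g.continuous).mem_open W.2 h

lemma exists_specMap_eq {A : Type u} [CommRing A] [IsLocalRing A] (g : Spec (.of A) ⟶ X)
    {W : X.Opens} (hW : IsAffineOpen W) (h : g.base (closedPoint A) ∈ W) :
    ∃ φ : Γ(X, W) ⟶ .of A, Spec.map φ ≫ hW.fromSpec = g := by
  have hr : Set.range g.base ⊆ Set.range hW.fromSpec.base := by
    rintro _ ⟨z, rfl⟩
    rw [hW.range_fromSpec]
    exact mem_of_closedPoint_mem g h z
  exact ⟨Spec.preimage (IsOpenImmersion.lift hW.fromSpec g hr), by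
    rw [Spec.map_preimage, IsOpenImmersion.lift_fac]⟩

lemma ev_comp {L : Type u} [Field L] (f : X ⟶ S) (q : Spec (.of L) ⟶ X) {U : X.Opens} {V : S.Opens}
    (hU : IsAffineOpen U) (hV : IsAffineOpen V) (e : U ≤ f ⁻¹ᵁ V) (h : q.base (closedPoint L) ∈ U) :
    f.appLE V U e ≫ ev q U h = ev (q ≫ f) V (e h) := by
  apply specMap_injective hV
  rw [Spec.map_comp, Category.assoc, specMap_ev _ hV, hV.SpecMap_appLE_fromSpec f hU e,
    ← Category.assoc, specMap_ev _ hU]

/-- A lift of a square over an affine open exists as soon as the sections map into the ring. -/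
lemma exists_lift_of_range_le {R K : Type u} [CommRing R] [IsLocalRing R] [Field K] [Algebra R K]
    (hinj : Function.Injective (algebraMap R K))
    (f : X ⟶ S) (i₁ : Spec (.of K) ⟶ X) (i₂ : Spec (.of R) ⟶ S)
    (w : i₁ ≫ f = Spec.map (CommRingCat.ofHom (algebraMap R K)) ≫ i₂)
    {U : X.Opens} {V : S.Opens} (hU : IsAffineOpen U) (hV : IsAffineOpen V) (e : U ≤ f ⁻¹ᵁ V)
    (hV' : i₂.base (closedPoint R) ∈ V) (h : i₁.base (closedPoint K) ∈ U)
    (hr : ∀ a, (ev i₁ U h).hom a ∈ (algebraMap R K).range) :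
    ∃ l : Spec (.of R) ⟶ X, l.base (closedPoint R) ∈ U ∧
      Spec.map (CommRingCat.ofHom (algebraMap R K)) ≫ l = i₁ ∧ l ≫ f = i₂ := by
  choose d hd using hr
  let D : Γ(X, U) ⟶ .of R := CommRingCat.ofHom
    { toFun := d
      map_one' := hinj (by rw [hd, map_one, map_one])
      map_mul' := fun a b ↦ hinj (by rw [map_mul, hd, hd, hd, map_mul])
      map_zero' := hinj (by rw [hd, map_zero, map_zero])
      map_add' := fun a b ↦ hinj (by rw [map_add, hd, hd, hd, map_add]) }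
  have hD : D ≫ CommRingCat.ofHom (algebraMap R K) = ev i₁ U h := by
    ext a
    exact hd a
  refine ⟨Spec.map D ≫ hU.fromSpec, hU.range_fromSpec.le ⟨_, rfl⟩, ?_, ?_⟩
  · rw [← Category.assoc, ← Spec.map_comp, hD, specMap_ev]
  · obtain ⟨c, hc⟩ := exists_specMap_eq i₂ hV hV'
    have key : f.appLE V U e ≫ D = c := by
      have : f.appLE V U e ≫ D ≫ CommRingCat.ofHom (algebraMap R K) =
          c ≫ CommRingCat.ofHom (algebraMap R K) := by
        rw [hD, ev_comp f i₁ hU hV e h]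
        apply specMap_injective hV
        rw [specMap_ev, w, ← hc, Spec.map_comp, Category.assoc]
      ext a
      exact hinj (ConcreteCategory.congr_hom this a)
    rw [Category.assoc, ← hV.SpecMap_appLE_fromSpec f hU e, ← Category.assoc, ← Spec.map_comp, key, hc]

lemma exists_subring_le_prime {L : Type u} [Field L] {K : Type u} [Field K] {R : Type u}
    [CommRing R] [IsLocalRing R] [Algebra R K] (hinj : Function.Injective (algebraMap R K))
    (T : Subring L) (θ : T →+* K) (B : Type u) [CommRing B] (g : B →+* L)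
    (hg : ∀ b, ∃ h : g b ∈ T, θ ⟨g b, h⟩ ∈ (algebraMap R K).range)
    (E : Finset L) (hE0 : ∀ a ∈ E, a ≠ 0) (hne : E.Nonempty)
    (hE : ∀ a ∈ E, ∃ h : a ∈ T, ∃ r ∈ maximalIdeal R, algebraMap R K r = θ ⟨a, h⟩) :
    ∃ C : LocalSubring L, ¬ IsField C.toSubring ∧ (IsNoetherianRing B → IsNoetherianRing C.toSubring) ∧
      (∀ b, g b ∈ C.toSubring) ∧ ∀ a ∈ E, ∃ h : a ∈ C.toSubring, ¬ IsUnit (⟨a, h⟩ : C.toSubring) := by
  classical
  let _ : Algebra B L := g.toAlgebra
  let B₁ := Algebra.adjoin B (E : Set L)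
  let D : Subring L := B₁.toSubring
  let T' : Subring L := ((algebraMap R K).range.comap θ).map T.subtype
  have hDT : D ≤ T' := by
    intro z hz
    refine Algebra.adjoin_induction (fun a ha ↦ ?_) (fun b ↦ ?_) (fun _ _ _ _ ↦ T'.add_mem)
      (fun _ _ _ _ ↦ T'.mul_mem) hz
    · obtain ⟨h, r, -, hr⟩ := hE a ha
      exact ⟨⟨a, h⟩, ⟨r, hr⟩, rfl⟩
    · obtain ⟨h, hh⟩ := hg b
      exact ⟨⟨g b, h⟩, hh, rfl⟩
  have hD : ∀ z : D, ∃ h : (z : L) ∈ T, θ ⟨z, h⟩ ∈ (algebraMap R K).range := by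
    rintro ⟨z, hz⟩
    obtain ⟨⟨t, ht⟩, hh, rfl⟩ := hDT hz
    exact ⟨ht, hh⟩
  choose hDT' hDR using hD
  let ι : D →+* T := Subring.inclusion (fun z hz ↦ hDT' ⟨z, hz⟩)
  let φ : D →+* R := (RingEquiv.ofBijective (algebraMap R K).rangeRestrict
    ⟨fun a b h ↦ hinj (congrArg Subtype.val h), (algebraMap R K).rangeRestrict_surjective⟩).symm.toRingHom.comp
    ((θ.comp ι).codRestrict (algebraMap R K).range hDR)
  have hφ : ∀ z, algebraMap R K (φ z) = θ (ι z) := fun z ↦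
    congrArg Subtype.val ((RingEquiv.ofBijective (algebraMap R K).rangeRestrict
      ⟨fun a b h ↦ hinj (congrArg Subtype.val h), (algebraMap R K).rangeRestrict_surjective⟩).apply_symm_apply
        ⟨θ (ι z), hDR z⟩)
  let P : Ideal D := (maximalIdeal R).comap φ
  have hP : P.IsPrime := Ideal.IsPrime.comap φ
  let C := LocalSubring.ofPrime D P
  have hEC : ∀ a ∈ E, ∃ h : a ∈ C.toSubring, ¬ IsUnit (⟨a, h⟩ : C.toSubring) := by
    intro a ha
    have haD : a ∈ D := Algebra.subset_adjoin ha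
    obtain ⟨h, r, hr, hr'⟩ := hE a ha
    have haP : (⟨a, haD⟩ : D) ∈ P := by
      show φ ⟨a, haD⟩ ∈ maximalIdeal R
      rwa [show φ ⟨a, haD⟩ = r from hinj (by rw [hφ, hr']; rfl)]
    refine ⟨LocalSubring.le_ofPrime D P haD, (mem_maximalIdeal _).mp ?_⟩
    rw [← IsLocalization.AtPrime.map_eq_maximalIdeal P]
    exact Ideal.mem_map_of_mem (algebraMap D C.toSubring) haP
  refine ⟨C, ?_, ?_, fun b ↦ LocalSubring.le_ofPrime D P (B₁.algebraMap_mem b), hEC⟩
  · obtain ⟨a, ha⟩ := hne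
    obtain ⟨h, hu⟩ := hEC a ha
    intro hf
    obtain ⟨b, hb⟩ := hf.mul_inv_cancel (a := ⟨a, h⟩) fun h0 ↦ hE0 a ha (congrArg Subtype.val h0)
    exact hu (isUnit_iff_exists_inv.mpr ⟨b, hb⟩)
  · intro _
    have : IsNoetherianRing D := isNoetherianRing_of_fg (Subalgebra.fg_adjoin_finset E)
    exact isNoetherianRing_ofPrime D P

variable {L : Type u} [Field L]

/-- `Good f q V`: the square formed by `q` and any compatible morphism from `V` has a lift. -/
def Lifts (f : X ⟶ S) (q : Spec (.of L) ⟶ X) (V : ValuationSubring L) : Prop :=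
  ∀ y : Spec (.of V) ⟶ S, Spec.map (CommRingCat.ofHom V.subtype) ≫ y = q ≫ f →
    ∃ l : Spec (.of V) ⟶ X, l ≫ f = y ∧ Spec.map (CommRingCat.ofHom V.subtype) ≫ l = q

/-- **Core** of the valuative criteria: a valuative square at a specialization of the image of `q`
has a lift, provided suitable squares at `q` have lifts. -/
theorem exists_lift_core (f : X ⟶ S) [QuasiCompact f] (q : Spec (.of L) ⟶ X)
    (P : ValuationSubring L → Prop)
    (hP : ∀ (V₀ : S.Opens) (_ : IsAffineOpen V₀) (hq : (q ≫ f).base (closedPoint L) ∈ V₀)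
      (C : LocalSubring L), ¬ IsField C.toSubring → (∀ b, (ev (q ≫ f) V₀ hq).hom b ∈ C.toSubring) →
      (IsNoetherianRing Γ(S, V₀) → IsNoetherianRing C.toSubring) →
      ∃ V, P V ∧ C ≤ ValuationSubring.toLocalSubring V)
    (H : ∀ V, P V → Lifts f q V)
    {R K : Type u} [CommRing R] [IsDomain R] [ValuationRing R] [Field K] [Algebra R K]
    [IsFractionRing R K] (i₁ : Spec (.of K) ⟶ X) (i₂ : Spec (.of R) ⟶ S)
    (w : i₁ ≫ f = Spec.map (CommRingCat.ofHom (algebraMap R K)) ≫ i₂)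
    (hsp : q.base (closedPoint L) ⤳ i₁.base (closedPoint K))
    (T : Subring L) (θ : T →+* K)
    (hT : ∀ (U : X.Opens) (hx : i₁.base (closedPoint K) ∈ U) (a : Γ(X, U)),
      ∃ h : (ev q U (hsp.mem_open U.2 hx)).hom a ∈ T, θ ⟨_, h⟩ = (ev i₁ U hx).hom a)
    (hout : ∀ (U : X.Opens) (V₀ : S.Opens) (_ : IsAffineOpen U) (_ : IsAffineOpen V₀)
      (_ : U ≤ f ⁻¹ᵁ V₀) (_ : i₂.base (closedPoint R) ∈ V₀) (hη : q.base (closedPoint L) ∈ U),
      i₁.base (closedPoint K) ∉ U → ∃ a, (ev q U hη).hom a ≠ 0 ∧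
        ∃ h : ((ev q U hη).hom a)⁻¹ ∈ T, θ ⟨_, h⟩ = 0) :
    ∃ l : Spec (.of R) ⟶ X, Spec.map (CommRingCat.ofHom (algebraMap R K)) ≫ l = i₁ ∧ l ≫ f = i₂ := by
  classical
  have hinj : Function.Injective (algebraMap R K) := IsFractionRing.injective R K
  by_contra hcon
  obtain ⟨_, ⟨V₀, hV₀, rfl⟩, hyV₀, -⟩ :=
    S.isBasis_affineOpens.exists_subset_of_mem_open (Set.mem_univ (i₂.base (closedPoint R))) isOpen_univ
  have hxV : i₁.base (closedPoint K) ∈ f ⁻¹ᵁ V₀ := by
    show (i₁ ≫ f).base (closedPoint K) ∈ V₀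
    rw [w]
    exact mem_of_closedPoint_mem i₂ hyV₀ _
  have hηV : q.base (closedPoint L) ∈ f ⁻¹ᵁ V₀ := hsp.mem_open (f ⁻¹ᵁ V₀).2 hxV
  let ι := {U : X.Opens // IsAffineOpen U ∧ U ≤ f ⁻¹ᵁ V₀}
  obtain ⟨t, ht⟩ := (QuasiCompact.isCompact_preimage (f := f) _ V₀.2 hV₀.isCompact).elim_finite_subcover
    (fun U : ι ↦ (U.1 : Set X)) (fun U ↦ U.1.2) fun z hz ↦ by
      obtain ⟨_, ⟨U, hU, rfl⟩, hzU, hUV⟩ :=
        X.isBasis_affineOpens.exists_subset_of_mem_open hz (f ⁻¹ᵁ V₀).2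
      exact Set.mem_iUnion.mpr ⟨⟨U, hU, hUV⟩, hzU⟩
  let J := {U : t // q.base (closedPoint L) ∈ U.1.1}
  have key : ∀ U : J, ∃ (a : Γ(X, U.1.1.1)) (h : ((ev q U.1.1.1 U.2).hom a)⁻¹ ∈ T),
      (ev q U.1.1.1 U.2).hom a ≠ 0 ∧ ∃ r ∈ maximalIdeal R, algebraMap R K r = θ ⟨_, h⟩ := by
    rintro ⟨⟨⟨U, hU, hUV⟩, hUt⟩, hη⟩
    by_cases hx : i₁.base (closedPoint K) ∈ U
    · obtain ⟨a, ha⟩ : ∃ a, (ev i₁ U hx).hom a ∉ (algebraMap R K).range := by
        by_contra! h
        obtain ⟨l, -, hl⟩ := exists_lift_of_range_le hinj f i₁ i₂ w hU hV₀ hUV hyV₀ hx h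
        exact hcon ⟨l, hl⟩
      have ha0 : (ev i₁ U hx).hom a ≠ 0 := fun h ↦ ha (h ▸ zero_mem _)
      let x := i₁.base (closedPoint K)
      let s : X.presheaf.stalk x := (X.presheaf.germ U x hx).hom a
      have hs : IsUnit s := by
        refine IsUnit.of_map (Scheme.stalkClosedPointTo i₁).hom s ?_
        exact isUnit_iff_ne_zero.mpr ha0
      let χ : X.presheaf.stalk x ⟶ .of L :=
        X.presheaf.stalkSpecializes hsp ≫ Scheme.stalkClosedPointTo q
      have hχ : ∀ (W : X.Opens) (hW : x ∈ W) (b : Γ(X, W)),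
          χ.hom ((X.presheaf.germ W x hW).hom b) = (ev q W (hsp.mem_open W.2 hW)).hom b := by
        intro W hW b
        show (X.presheaf.germ W x hW ≫ χ).hom b = _
        rw [TopCat.Presheaf.germ_stalkSpecializes_assoc]
        rfl
      obtain ⟨s', hs'⟩ := hs.exists_right_inv
      obtain ⟨W, hW, b, hb⟩ := X.presheaf.exists_germ_eq s'
      obtain ⟨hbT, hbθ⟩ := hT W hW b
      have h1 : (ev q U hη).hom a * (ev q W (hsp.mem_open W.2 hW)).hom b = 1 := by
        rw [← hχ U hx a, ← hχ W hW b, hb, ← map_mul, hs', map_one]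
      have h2 : (ev i₁ U hx).hom a * (ev i₁ W hW).hom b = 1 := by
        show (Scheme.stalkClosedPointTo i₁).hom s *
          (Scheme.stalkClosedPointTo i₁).hom ((X.presheaf.germ W x hW).hom b) = 1
        refine (congrArg (fun z ↦ (Scheme.stalkClosedPointTo i₁).hom s *
          (Scheme.stalkClosedPointTo i₁).hom z) hb).trans ?_
        rw [← map_mul, hs', map_one]
      have h3 := inv_eq_of_mul_eq_one_right h1
      refine ⟨a, h3 ▸ hbT, left_ne_zero_of_mul_eq_one h1, ?_⟩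
      rcases ValuationRing.isInteger_or_isInteger R ((ev i₁ U hx).hom a) with ⟨r, hr⟩ | ⟨r, hr⟩
      · exact (ha ⟨r, hr⟩).elim
      · refine ⟨r, ?_, ?_⟩
        · refine (mem_maximalIdeal r).mpr fun hu ↦ ha ?_
          refine ⟨↑hu.unit⁻¹, ?_⟩
          rw [← inv_inv ((ev i₁ U hx).hom a), ← hr]
          exact eq_inv_of_mul_eq_one_left (by rw [← map_mul, hu.val_inv_mul, map_one])
        · rw [hr, inv_eq_of_mul_eq_one_right h2, ← hbθ]
          congr 1
          exact Subtype.ext h3.symm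
    · obtain ⟨a, ha0, h, hθ⟩ := hout U V₀ hU hV₀ hUV hyV₀ hη hx
      exact ⟨a, h, ha0, 0, zero_mem _, by rw [map_zero, hθ]⟩
  choose a ha ha0 har using key
  let E : Finset L := Finset.univ.image fun U : J ↦ ((ev q U.1.1.1 U.2).hom (a U))⁻¹
  obtain ⟨c, hc⟩ := exists_specMap_eq i₂ hV₀ hyV₀
  obtain ⟨C, hCf, hCn, hCB, hCE⟩ := exists_subring_le_prime hinj T θ Γ(S, V₀)
    (ev (q ≫ f) V₀ hηV).hom (R := R) (fun b ↦ by
      obtain ⟨_, ⟨U, hU, rfl⟩, hxU, hUV⟩ :=
        X.isBasis_affineOpens.exists_subset_of_mem_open hxV (f ⁻¹ᵁ V₀).2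
      obtain ⟨h, hh⟩ := hT U hxU ((f.appLE V₀ U hUV).hom b)
      have h1 : (ev q U (hsp.mem_open U.2 hxU)).hom ((f.appLE V₀ U hUV).hom b) =
          (ev (q ≫ f) V₀ hηV).hom b :=
        ConcreteCategory.congr_hom (ev_comp f q hU hV₀ hUV (hsp.mem_open U.2 hxU)) b
      have h2 : ev (i₁ ≫ f) V₀ hxV = c ≫ CommRingCat.ofHom (algebraMap R K) := by
        apply specMap_injective hV₀
        rw [specMap_ev, w, ← hc, Spec.map_comp, Category.assoc]
      refine ⟨h1 ▸ h, c.hom b, ?_⟩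
      rw [show θ ⟨_, h1 ▸ h⟩ = (ev i₁ U hxU).hom ((f.appLE V₀ U hUV).hom b) by
        rw [← hh]; congr 1; exact Subtype.ext h1.symm]
      exact ((ConcreteCategory.congr_hom (ev_comp f i₁ hU hV₀ hUV hxU) b).trans
        (ConcreteCategory.congr_hom h2 b)).symm)
    E (by
      intro e he
      obtain ⟨U, -, rfl⟩ := Finset.mem_image.mp he
      exact inv_ne_zero (ha0 U))
    (by
      obtain ⟨U, hUt, hxU⟩ := Set.mem_iUnion₂.mp (ht hxV)
      exact ⟨_, Finset.mem_image_of_mem _ (Finset.mem_univ (⟨⟨U, hUt⟩, hsp.mem_open U.1.2 hxU⟩ : J))⟩)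
    (by
      intro e he
      obtain ⟨U, -, rfl⟩ := Finset.mem_image.mp he
      exact ⟨ha U, har U⟩)
  obtain ⟨V, hPV, hCV⟩ := hP V₀ hV₀ hηV C hCf hCB hCn
  let cV : Γ(S, V₀) ⟶ .of V := CommRingCat.ofHom
    ((ev (q ≫ f) V₀ hηV).hom.codRestrict V.toSubring fun b ↦ hCV.1 (hCB b))
  obtain ⟨l, hl, hlq⟩ := H V hPV (Spec.map cV ≫ hV₀.fromSpec) (by
    rw [← Category.assoc, ← Spec.map_comp]
    exact specMap_ev (q ≫ f) hV₀ hηV)
  have hl' : l.base (closedPoint V) ∈ f ⁻¹ᵁ V₀ := by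
    show (l ≫ f).base (closedPoint V) ∈ V₀
    rw [hl]
    exact hV₀.range_fromSpec.le ⟨_, rfl⟩
  obtain ⟨U, hUt, hlU⟩ := Set.mem_iUnion₂.mp (ht hl')
  have hηU : q.base (closedPoint L) ∈ U.1 := by
    rw [← hlq]
    exact mem_of_closedPoint_mem l hlU _
  obtain ⟨m, hm⟩ := exists_specMap_eq l U.2.1 hlU
  have hmq : m ≫ CommRingCat.ofHom V.subtype = ev q U.1 hηU := by
    apply specMap_injective U.2.1
    rw [specMap_ev, Spec.map_comp, Category.assoc, hm, hlq]
  let j : J := ⟨⟨U, hUt⟩, hηU⟩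
  obtain ⟨he, hu⟩ := hCE _ (Finset.mem_image_of_mem _ (Finset.mem_univ j))
  apply hu
  have hnu := hCV.2.map_nonunit ⟨_, he⟩
  apply hnu
  have hmem : (ev q U.1 hηU).hom (a j) ∈ V := by
    rw [← hmq]
    exact (m.hom (a j)).2
  exact isUnit_iff_exists_inv.mpr ⟨(⟨_, hmem⟩ : V), Subtype.ext (inv_mul_cancel₀ (ha0 j))⟩

end GrothLib.DVRDom

namespace GrothLib.DVRDom

/-- Two morphisms from a local scheme agreeing at the closed point and after an injection into a
field are equal. -/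
lemma eq_of_closedPoint {X : Scheme.{u}} {R K : Type u} [CommRing R] [IsLocalRing R] [CommRing K]
    (j : R →+* K) (hj : Function.Injective j) (l₁ l₂ : Spec (.of R) ⟶ X)
    (hc : l₁.base (closedPoint R) = l₂.base (closedPoint R))
    (h : Spec.map (CommRingCat.ofHom j) ≫ l₁ = Spec.map (CommRingCat.ofHom j) ≫ l₂) : l₁ = l₂ := by
  obtain ⟨_, ⟨W, hW, rfl⟩, h₁, -⟩ :=
    X.isBasis_affineOpens.exists_subset_of_mem_open (Set.mem_univ (l₁.base (closedPoint R))) isOpen_univ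
  obtain ⟨a, rfl⟩ := exists_specMap_eq l₁ hW h₁
  obtain ⟨b, rfl⟩ := exists_specMap_eq l₂ hW (hc ▸ h₁)
  rw [← Category.assoc, ← Category.assoc, ← Spec.map_comp, ← Spec.map_comp] at h
  have h' := specMap_injective hW h
  have : a = b := by
    ext s
    exact hj (ConcreteCategory.congr_hom h' s)
  rw [this]

lemma closedPoint_comp {X : Scheme.{u}} {R R' : Type u} [CommRing R] [IsLocalRing R] [CommRing R']
    [IsLocalRing R'] (j : R →+* R') [IsLocalHom j] (l : Spec (.of R) ⟶ X) :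
    (Spec.map (CommRingCat.ofHom j) ≫ l).base (closedPoint R') = l.base (closedPoint R) := by
  show l.base ((Spec.map (CommRingCat.ofHom j)).base (closedPoint R')) = _
  exact congrArg l.base (comap_closedPoint j)

end GrothLib.DVRDom
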