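import Mathlib.RingTheory.OrderOfVanishing.Basic
import Mathlib.RingTheory.DedekindDomain.Basic
import Mathlib.RingTheory.Valuation.ValuationSubring
import Mathlib.RingTheory.DiscreteValuationRing.Basic
import Mathlib.RingTheory.Localization.Integral

/-!
A valuation ring between a one-dimensional noetherian domain and its fraction field is noetherian.
-/

namespace GrothLib.DVRDom

open Module
open scoped Pointwise

variable {R : Type*} [CommRing R]

/-- A module all of whose finitely generated submodules have bounded length is noetherian. -/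
lemma isNoetherian_of_forall_fg_length_le {Q : Type*} [AddCommGroup Q] [Module R Q] {N : ℕ}
    (h : ∀ P : Submodule R Q, P.FG → Module.length R P ≤ N) : IsNoetherian R Q := by
  classical
  have hex : ∃ n : ℕ, ∀ P : Submodule R Q, P.FG → Module.length R P ≤ n := ⟨N, h⟩
  let n := Nat.find hex
  have hn : ∀ P : Submodule R Q, P.FG → Module.length R P ≤ n := Nat.find_spec hex
  have hmax : ∃ P : Submodule R Q, P.FG ∧ (n : ℕ∞) ≤ Module.length R P := by
    by_contra! hlt
    rcases Nat.eq_zero_or_pos n with h0 | hpos
    · exact absurd (hlt ⊥ Submodule.fg_bot) (by simp [h0])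
    · refine Nat.find_min hex (Nat.sub_lt hpos one_pos) fun P hP ↦ ?_
      have := hlt P hP
      have hne : Module.length R P ≠ ⊤ := this.ne_top
      obtain ⟨k, hk⟩ := ENat.ne_top_iff_exists.mp hne
      rw [← hk] at this ⊢
      norm_cast at this ⊢
      omega
  obtain ⟨P, hP, hPn⟩ := hmax
  have hPn' : Module.length R P = n := le_antisymm (hn P hP) hPn
  have htop : P = ⊤ := by
    rw [eq_top_iff]
    intro q _
    let P' := P ⊔ Submodule.span R {q}
    have hP' : P'.FG := hP.sup (Submodule.fg_span_singleton q)
    have hfin : IsFiniteLength R P' :=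
      Module.length_ne_top_iff.mp (ne_top_of_le_ne_top (ENat.natCast_ne_top n) (hn P' hP'))
    obtain ⟨_, _⟩ := isFiniteLength_iff_isNoetherian_isArtinian.mp hfin
    have he : Submodule.comap P'.subtype P = ⊤ := by
      by_contra hne
      have hlt := Submodule.length_lt hne
      rw [(Submodule.comapSubtypeEquivOfLe (le_sup_left : P ≤ P')).length_eq, hPn'] at hlt
      exact not_le.mpr hlt (hn P' hP')
    exact (he.ge (Submodule.mem_top (x := (⟨q, Submodule.mem_sup_right
      (Submodule.mem_span_singleton_self q)⟩ : P'))) :)
  have hfin : IsFiniteLength R Q := Module.length_ne_top_iff.mp <| by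
    rw [← Module.length_top (R := R) (M := Q), ← htop, hPn']
    exact ENat.natCast_ne_top n
  exact (isFiniteLength_iff_isNoetherian_isArtinian.mp hfin).1

variable [IsDomain R] [IsNoetherianRing R] [Ring.DimensionLEOne R]
  {K : Type*} [Field K] [Algebra R K] [IsFractionRing R K]

lemma length_ideal_map_le {x : R} (hx : x ≠ 0) (I : Ideal R) :
    Module.length R (LinearMap.range ((Submodule.mkQ (x • I : Ideal R)).comp I.subtype)) ≤
      Ring.ord R x := by
  rcases eq_or_ne I ⊥ with rfl | hI
  · rw [show LinearMap.range ((Submodule.mkQ (x • (⊥ : Ideal R) : Ideal R)).comp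
        (⊥ : Ideal R).subtype) = ⊥ by
      rw [LinearMap.range_comp, Submodule.range_subtype, Submodule.map_bot]]
    simp
  have hxI : (x • I : Ideal R) ≤ I := by
    intro r hr
    obtain ⟨s, hs, rfl⟩ := hr
    exact I.mul_mem_left x hs
  have e1 := Module.length_eq_add_of_exact (Ideal.mulQuot x I) (Ideal.quotOfMul x I)
    (Ideal.mulQuot_injective I (mem_nonZeroDivisors_of_ne_zero hx))
    (Ideal.quotOfMul_surjective I) (Ideal.exact_mulQuot_quotOfMul I)
  have e2 := Module.length_eq_add_of_exact
    (LinearMap.range ((Submodule.mkQ (x • I : Ideal R)).comp I.subtype)).subtype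
    (Submodule.factor hxI) Subtype.val_injective (Submodule.factor_surjective hxI) (by
      rw [LinearMap.exact_iff, Submodule.range_subtype, LinearMap.range_comp, Submodule.range_subtype]
      simp [Submodule.factor, Submodule.mapQ, Submodule.ker_liftQ])
  obtain ⟨b, hbI, hb⟩ := Submodule.exists_mem_ne_zero_of_ne_bot hI
  have hfin : Module.length R (R ⧸ I) ≠ ⊤ := by
    refine ne_top_of_le_ne_top (Ring.ord_ne_top (mem_nonZeroDivisors_of_ne_zero hb)) ?_
    exact Module.length_le_of_surjective
      (Submodule.factor ((Ideal.span_singleton_le_iff_mem I).mpr hbI))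
      (Submodule.factor_surjective _)
  rw [e1, add_comm] at e2
  exact ((WithTop.add_right_inj hfin).mp e2).ge

omit [Ring.DimensionLEOne R] [IsNoetherianRing R] in
lemma exists_injective_to_ring (M : Submodule R K) (hM : M.FG) :
    ∃ j : M →ₗ[R] R, Function.Injective j := by
  classical
  obtain ⟨s, rfl⟩ := hM
  obtain ⟨⟨c, hc⟩, hcs⟩ := IsLocalization.exist_integer_multiples_of_finset (nonZeroDivisors R) s
  let φ : K →ₗ[R] K := c • LinearMap.id
  have hφ : Submodule.span R (s : Set K) ≤ Submodule.comap φ (LinearMap.range (Algebra.linearMap R K)) := by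
    rw [Submodule.span_le]
    intro a ha
    obtain ⟨r, hr⟩ := hcs a ha
    exact ⟨r, hr⟩
  have hinj : Function.Injective (Algebra.linearMap R K) := IsFractionRing.injective R K
  let e := LinearEquiv.ofInjective (Algebra.linearMap R K) hinj
  refine ⟨e.symm.toLinearMap.comp
    ((φ.comp (Submodule.span R (s : Set K)).subtype).codRestrict _ fun m ↦ hφ m.2), ?_⟩
  intro a b hab
  have h : c • (a : K) = c • (b : K) := congrArg Subtype.val (e.symm.injective hab)
  rw [Algebra.smul_def, Algebra.smul_def] at h
  exact Subtype.ext (mul_left_cancel₀ ((map_ne_zero_iff _ hinj).mpr (nonZeroDivisors.ne_zero hc)) h)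

/-- **Krull–Akizuki** for valuation subrings: a valuation subring of the fraction field containing a
one-dimensional noetherian domain is noetherian. -/
theorem isNoetherianRing_valuationSubring (V : ValuationSubring K)
    (hV : ∀ r : R, algebraMap R K r ∈ V) : IsNoetherianRing V := by
  let ι : R →+* V := (algebraMap R K).codRestrict V.toSubring hV
  let _ : Algebra R V := ι.toAlgebra
  have hiota : ∀ r, ((algebraMap R V r : V) : K) = algebraMap R K r := fun r ↦ rfl
  let incl : V →ₗ[R] K :=
    { toFun := Subtype.val, map_add' := fun _ _ ↦ rfl,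
      map_smul' := fun r v ↦ by rw [Algebra.smul_def, Algebra.smul_def]; exact congrArg (· * (v : K)) (hiota r) }
  refine (isNoetherianRing_iff_ideal_fg _).mpr fun J ↦ ?_
  rcases eq_or_ne J ⊥ with rfl | hJ
  · exact Submodule.fg_bot
  obtain ⟨y, hyJ, hy⟩ := Submodule.exists_mem_ne_zero_of_ne_bot hJ
  obtain ⟨a, b, hb, hab⟩ := IsFractionRing.div_surjective (A := R) (y : K)
  have hb' : algebraMap R K b ≠ 0 :=
    (map_ne_zero_iff _ (IsFractionRing.injective R K)).mpr (nonZeroDivisors.ne_zero hb)
  have hay : ι a = ι b * y := Subtype.ext (by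
    show algebraMap R K a = algebraMap R K b * (y : K)
    rw [← hab, mul_div_cancel₀ _ hb'])
  have haJ : ι a ∈ J := hay ▸ J.mul_mem_left _ hyJ
  have ha : a ≠ 0 := fun h ↦ by
    rw [h, map_zero] at hay
    rcases mul_eq_zero.mp hay.symm with h' | h'
    · exact hb' (congrArg Subtype.val h')
    · exact hy h'
  obtain ⟨N, hN⟩ := ENat.ne_top_iff_exists.mp (Ring.ord_ne_top (mem_nonZeroDivisors_of_ne_zero ha))
  let A : Ideal V := Ideal.span {ι a}
  let q : V →ₗ[R] V ⧸ A := (Submodule.mkQ A).restrictScalars R
  have key : ∀ P : Submodule R (V ⧸ A), P.FG → Module.length R P ≤ N := by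
    intro P hP
    classical
    obtain ⟨s, hs⟩ := hP
    choose g hg using fun z : V ⧸ A ↦ Submodule.mkQ_surjective A z
    let M : Submodule R V := Submodule.span R (g '' (s : Set (V ⧸ A)))
    have hM : M.FG := Submodule.fg_span ((s.finite_toSet).image g)
    have hMP : M.map q = P := by
      rw [← hs, Submodule.map_span, ← Set.image_comp]
      congr 1
      ext z
      simp [q, hg]
    obtain ⟨j, hj⟩ := exists_injective_to_ring (M.map incl) (hM.map incl)
    let j' : M →ₗ[R] R := j.comp ((incl.comp M.subtype).codRestrict (M.map incl)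
      fun m ↦ Submodule.mem_map_of_mem m.2)
    have hj' : Function.Injective j' := fun u v huv ↦ by
      apply Subtype.ext
      apply Subtype.ext
      have huv' := congrArg Subtype.val (hj huv)
      exact huv'
    let I : Ideal R := LinearMap.range j'
    let φ : M →ₗ[R] R ⧸ (a • I : Ideal R) := (Submodule.mkQ _).comp j'
    have hrange : LinearMap.range φ =
        LinearMap.range ((Submodule.mkQ (a • I : Ideal R)).comp I.subtype) := by
      conv_rhs => rw [LinearMap.range_comp, Submodule.range_subtype]
      exact LinearMap.range_comp _ _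
    let ψ : M →ₗ[R] V ⧸ A := q.comp M.subtype
    have hker : LinearMap.ker φ ≤ LinearMap.ker ψ := by
      intro m hm
      have hm' : j' m ∈ (a • I : Ideal R) := (Submodule.Quotient.mk_eq_zero _).mp hm
      obtain ⟨_, ⟨m', rfl⟩, hm''⟩ := hm'
      have : m = a • m' := hj' (by rw [map_smul]; exact hm''.symm)
      subst this
      show Submodule.mkQ A ((a • m' : M) : V) = 0
      rw [Submodule.mkQ_apply, Submodule.Quotient.mk_eq_zero]
      exact Ideal.mem_span_singleton.mpr ⟨(m' : V), rfl⟩
    have hψ : LinearMap.range ψ = P := by
      rw [LinearMap.range_comp, Submodule.range_subtype, hMP]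
    have e1 : Module.length R (LinearMap.range ψ) = Module.length R (M ⧸ LinearMap.ker ψ) :=
      ψ.quotKerEquivRange.length_eq.symm
    have e2 : Module.length R (LinearMap.range φ) = Module.length R (M ⧸ LinearMap.ker φ) :=
      φ.quotKerEquivRange.length_eq.symm
    calc Module.length R P = Module.length R (M ⧸ LinearMap.ker ψ) := by rw [← hψ, e1]
      _ ≤ Module.length R (M ⧸ LinearMap.ker φ) :=
        Module.length_le_of_surjective (Submodule.factor hker) (Submodule.factor_surjective hker)
      _ ≤ N := by rw [← e2, hrange, hN]; exact length_ideal_map_le ha I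
  have := isNoetherian_of_forall_fg_length_le key
  have : IsNoetherian V (V ⧸ A) := isNoetherian_of_tower R inferInstance
  have hmap : (Submodule.map (Submodule.mkQ A) J).FG := IsNoetherian.noetherian _
  refine Submodule.fg_of_fg_map_of_fg_inf_ker (Submodule.mkQ A) hmap ?_
  rw [Submodule.ker_mkQ, inf_eq_right.mpr ((Ideal.span_singleton_le_iff_mem J).mpr haJ)]
  exact Submodule.fg_span_singleton _

/-- A valuation subring other than the field, containing a one-dimensional noetherian domain with
the same fraction field, is a discrete valuation ring. -/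
theorem isDiscreteValuationRing_valuationSubring (V : ValuationSubring K)
    (hV : ∀ r : R, algebraMap R K r ∈ V) (hne : V ≠ ⊤) : IsDiscreteValuationRing V := by
  have := isNoetherianRing_valuationSubring V hV
  have : IsPrincipalIdealRing V := IsPrincipalIdealRing.of_isNoetherianRing_of_isBezout
  exact { not_a_field' := fun h ↦ hne <| by
            ext z
            refine ⟨fun _ ↦ trivial, fun _ ↦ ?_⟩
            rcases V.mem_or_inv_mem z with hz | hz
            · exact hz
            rcases eq_or_ne z 0 with rfl | hz0
            · exact V.zero_mem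
            have hu : IsUnit (⟨z⁻¹, hz⟩ : V) := IsLocalRing.notMem_maximalIdeal.mp fun hm ↦ by
              rw [h, Submodule.mem_bot] at hm
              exact inv_ne_zero hz0 (congrArg Subtype.val hm)
            obtain ⟨w, hw⟩ := isUnit_iff_exists_inv.mp hu
            have : z = (w : K) := (inv_inv z).symm.trans
              (inv_eq_of_mul_eq_one_right (congrArg Subtype.val hw))
            exact this ▸ w.2 }

end GrothLib.DVRDom
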